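import Groth.Agent.HypCurve.IdealChart
import Groth.Agent.VarDim.Proj

/-!
# The support of a complete intersection in projective space
-/

set_option autoImplicit false
set_option linter.style.haveILetI false
set_option backward.isDefEq.respectTransparency false
set_option backward.isDefEq.respectTransparency.types false

universe u

open CategoryTheory AlgebraicGeometry TopologicalSpace

noncomputable section

namespace Groth.Agent.WCI

open Groth.Agent

variable {r : ℕ} {k : Type u} [Field k]

theorem mem_basicOpen_dehom {d : ℕ} (G : LefPen.Form r k d) (i : Fin (r + 1)) (x : ↥(CohB1.ProjSpace r k))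
    (hx : x ∈ LefPen.chart r k i) :
    x ∈ (CohB1.ProjSpace r k).basicOpen (LefPen.dehom G i) ↔ G.1 ∉ (x.asHomogeneousIdeal.toIdeal) := by
  rw [Scheme.mem_basicOpen _ _ _ hx]
  have e : IsUnit (((CohB1.ProjSpace r k).presheaf.germ _ x hx).hom (LefPen.dehom G i)) ↔
      IsUnit ((LefPen.dehom G i).1 ⟨x, hx⟩) := by
    have h2 := Proj.stalkIso'_germ (CohB1.polyGrading r k) _ x hx (LefPen.dehom G i)
    rw [← h2]
    exact (isUnit_map_iff (Proj.stalkIso' (CohB1.polyGrading r k) x) _).symm
  rw [e, ← HomogeneousLocalization.isUnit_iff_isUnit_val, HypCurve.dehom_val, Localization.mk_eq_mk',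
    IsLocalization.AtPrime.isUnit_mk'_iff]
  exact Iff.rfl

theorem mem_support_hypIdeal {d : ℕ} (G : LefPen.Form r k d) (x : ↥(CohB1.ProjSpace r k)) :
    x ∈ (LefPen.hypIdeal G).support ↔ G.1 ∈ x.asHomogeneousIdeal.toIdeal := by
  obtain ⟨i, hi⟩ := TopologicalSpace.Opens.mem_iSup.1 ((HypCurve.iSup_chart r k).ge (Set.mem_univ x))
  have h := Set.ext_iff.1 ((LefPen.hypIdeal G).coe_support_inter (HypCurve.achart r k i)) x
  simp only [Set.mem_inter_iff, SetLike.mem_coe] at h
  have hi' : x ∈ ((HypCurve.achart r k i).1 : (CohB1.ProjSpace r k).Opens) := hi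
  rw [show (LefPen.hypIdeal G).ideal (HypCurve.achart r k i) = Ideal.span {LefPen.dehom G i} from
    HypCurve.hypIdeal_chart G i, Scheme.zeroLocus_span, Scheme.zeroLocus_singleton] at h
  constructor
  · intro hs
    by_contra hG
    exact (h.1 ⟨hs, hi'⟩).1 ((mem_basicOpen_dehom G i x hi).2 hG)
  · intro hG
    exact (h.2 ⟨fun hb => (mem_basicOpen_dehom G i x hi).1 hb hG, hi'⟩).1

theorem mem_support_ciIdeal {ι : Type} {a : ι → ℕ} (G : ∀ j, LefPen.Form r k (a j)) (x : ↥(CohB1.ProjSpace r k)) :
    x ∈ (LefPen.ciIdeal G).support ↔ ∀ j, (G j).1 ∈ x.asHomogeneousIdeal.toIdeal := by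
  rw [LefPen.ciIdeal, Scheme.IdealSheafData.support_iSup, TopologicalSpace.Closeds.mem_iInf]
  exact forall_congr' fun j => mem_support_hypIdeal (G j) x

open Order VarDim VarDim.ProjN in
/-- A complete intersection is equidimensional. -/
theorem dim_component {m : ℕ} {a : Fin m → ℕ} (G : ∀ j : Fin m, LefPen.Form r k (a j)) (_hm : m ≤ r)
    (hdim : topologicalKrullDim ↥(LefPen.ciIdeal G).subscheme = ((r - m : ℕ) : WithBot ℕ∞))
    (Z : Set ↥(LefPen.ciIdeal G).subscheme) (hZ : Z ∈ irreducibleComponents ↥(LefPen.ciIdeal G).subscheme) :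
    topologicalKrullDim ↥Z = ((r - m : ℕ) : WithBot ℕ∞) := by
  classical
  let ι₀ := (LefPen.ciIdeal G).subschemeι
  let J : Ideal (MvPolynomial (Fin (r + 1)) k) := Ideal.span (Set.range fun j => (G j).1)
  have hJ : J.IsHomogeneous (CohB1.polyGrading r k) := Ideal.homogeneous_span _ _ (by
    rintro _ ⟨j, rfl⟩; exact ⟨a j, (G j).2⟩)
  let Y : Set (ProjectiveSpectrum (CohB1.polyGrading r k)) := Set.range ι₀
  have hY : ∀ x, x ∈ Y ↔ J ≤ (pp x).asIdeal := fun x => by
    show x ∈ Set.range (LefPen.ciIdeal G).subschemeι ↔ _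
    rw [Scheme.IdealSheafData.range_subschemeι, SetLike.mem_coe, mem_support_ciIdeal]
    refine ⟨fun h => Ideal.span_le.2 (by rintro _ ⟨j, rfl⟩; exact h j), fun h j => h (Ideal.subset_span ⟨j, rfl⟩)⟩
  have hemb : Topology.IsClosedEmbedding ι₀ := ι₀.isClosedEmbedding
  have hYc : IsClosed Y := hemb.isClosed_range
  let e : ↥(LefPen.ciIdeal G).subscheme ≃ₜ Y := hemb.isEmbedding.toHomeomorph
  have hC : e '' Z ∈ irreducibleComponents Y := by
    refine ⟨hZ.1.image _ e.continuous.continuousOn, fun s hs hle => ?_⟩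
    have hs' : IsIrreducible (e ⁻¹' s) := by
      rw [← e.image_symm]
      exact hs.image _ e.symm.continuous.continuousOn
    have := hZ.2 hs' (fun z hz => hle ⟨z, hz, rfl⟩)
    intro y hy
    refine ⟨e.symm y, this ?_, e.apply_symm_apply y⟩
    show e (e.symm y) ∈ s
    rwa [e.apply_symm_apply]
  obtain ⟨c, hc, hmin, hcd⟩ := exists_minimal_of_mem_irreducibleComponents hYc hC
  have hZd : topologicalKrullDim ↥Z = (pdim c : WithBot ℕ∞) := by
    rw [← hcd]
    exact IsHomeomorph.topologicalKrullDim_eq _ (e.image Z).isHomeomorph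
  rw [hZd]
  have hub : pdim c ≤ r - m := by
    have h := le_topologicalKrullDim hYc hc
    rw [← IsHomeomorph.topologicalKrullDim_eq _ e.isHomeomorph, hdim] at h
    exact_mod_cast h
  have hlb : r - m ≤ pdim c := by
    have hP := mem_minimalPrimes_of_minimal hJ ((hY c).1 hc) fun d hd hdc => hmin d ((hY d).2 hd) hdc
    have h1 := Ideal.height_le_card_of_mem_minimalPrimes_span_finset
      (s := Finset.univ.image fun j => (G j).1) (p := (pp c).asIdeal) (by simpa [J] using hP)
    have h2 := height_add_coheight_pp (pp c)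
    rw [coheight_pp_eq, ← PrimeSpectrum.height_eq_orderHeight] at h2
    have h3 : (Finset.univ.image fun j => (G j).1).card ≤ m :=
      Finset.card_image_le.trans_eq (by simp)
    obtain ⟨H, hH⟩ := ENat.ne_top_iff_exists.1 (ne_top_of_le_ne_top (ENat.natCast_ne_top _) h1)
    rw [← hH] at h1 h2
    have h4 : H ≤ (Finset.univ.image fun j => (G j).1).card := by exact_mod_cast h1
    have h5 : H + (pdim c + 1) = r + 1 := by exact_mod_cast h2
    omega
  exact_mod_cast le_antisymm hub hlb

end Groth.Agent.WCI
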