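import Groth.Agent.WCI.Series

/-!
# Homogeneous prime filtrations of graded quotients of a polynomial ring
-/

set_option autoImplicit false
set_option linter.unusedSectionVars false
set_option linter.style.haveILetI false
set_option backward.isDefEq.respectTransparency false
set_option backward.isDefEq.respectTransparency.types false

universe u

open MvPolynomial

noncomputable section

attribute [local instance] MvPolynomial.weightedGradedAlgebra

namespace Groth.Agent.WCI

variable {F : Type u} [Field F] {N : ℕ} (δ : Fin N → ℕ)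

local notation "S" => MvPolynomial (Fin N) F

theorem smul_mk (p : Ideal S) (t a : S) : t • Ideal.Quotient.mk p a = Ideal.Quotient.mk p (t * a) := rfl

/-- A prime filtration. -/
inductive Fil : Ideal S → List (Ideal S × ℕ) → Prop
  | top : Fil ⊤ []
  | step {J p : Ideal S} {x : S} {e : ℕ} {l : List (Ideal S × ℕ)} :
      J.IsHomogeneous (weightedHomogeneousSubmodule F δ) → IsWeightedHomogeneous δ x e → p.IsPrime →
      p.IsHomogeneous (weightedHomogeneousSubmodule F δ) → (∀ a, a ∈ p ↔ x * a ∈ J) →
      Fil (J ⊔ Ideal.span {x}) l → Fil J ((p, e) :: l)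

theorem exists_fil (J : Ideal S) (hJ : J.IsHomogeneous (weightedHomogeneousSubmodule F δ)) : ∃ l, Fil δ J l := by
  induction J using WellFoundedGT.induction with
  | _ J ih =>
    by_cases htop : J = ⊤
    · exact ⟨[], htop ▸ Fil.top⟩
    let A : Set (Ideal S) := (fun x => Submodule.comap (LinearMap.mulLeft S x) J) ''
      {x | x ∉ J ∧ ∃ e, IsWeightedHomogeneous δ x e}
    have hne : A.Nonempty := ⟨_, 1, ⟨fun h => htop ((Ideal.eq_top_iff_one _).2 h), 0, isWeightedHomogeneous_one F δ⟩, rfl⟩
    obtain ⟨p, ⟨x, ⟨hx, e, he⟩, rfl⟩, hmax⟩ := wellFounded_gt.has_min A hne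
    set p : Ideal S := Submodule.comap (LinearMap.mulLeft S x) J with hp_def
    have hp : ∀ a, a ∈ p ↔ x * a ∈ J := fun a => Iff.rfl
    have hph : p.IsHomogeneous (weightedHomogeneousSubmodule F δ) := fun u a ha => by
      have h1 := comp_mem δ hJ ((hp a).1 ha) (u + e)
      rw [comp_mul δ he, if_pos (Nat.le_add_left e u), Nat.add_sub_cancel] at h1
      rw [show (DirectSum.decompose (weightedHomogeneousSubmodule F δ) a u : S) =
        weightedHomogeneousComponent δ u a from MvPolynomial.weightedDecomposition.decompose'_apply F δ a u]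
      exact (hp _).2 h1
    have hpp : p.IsPrime := by
      refine Ideal.IsHomogeneous.isPrime_of_homogeneous_mem_or_mem hph
        (fun h => hx (by simpa using (hp 1).1 (h ▸ Submodule.mem_top))) ?_
      rintro a b ⟨i, hi⟩ ⟨j, hj⟩ hab
      by_contra hc
      push Not at hc
      have hb : x * b ∉ J := fun h => hc.2 ((hp b).2 h)
      have hle : p ≤ Submodule.comap (LinearMap.mulLeft S (x * b)) J := fun c hcp => by
        show x * b * c ∈ J
        rw [mul_right_comm]
        exact J.mul_mem_right b ((hp c).1 hcp)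
      have heq := hle.eq_or_lt.resolve_right (hmax _ ⟨x * b, ⟨hb, e + j, he.mul hj⟩, rfl⟩)
      refine hc.1 (heq ▸ ?_)
      show x * b * a ∈ J
      rw [mul_assoc, mul_comm b a]
      exact (hp _).1 hab
    have hlt : J < J ⊔ Ideal.span {x} := by
      refine lt_of_le_of_ne le_sup_left fun h => hx ?_
      rw [h]
      exact Submodule.mem_sup_right (Ideal.mem_span_singleton_self x)
    obtain ⟨l, hl⟩ := ih _ hlt (hJ.sup (Ideal.homogeneous_span _ _ (by rintro _ rfl; exact ⟨e, he⟩)))
    exact ⟨(p, e) :: l, Fil.step hJ he hpp hph hp hl⟩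

variable {δ}

theorem Fil.le {J : Ideal S} {l : List (Ideal S × ℕ)} (h : Fil δ J l) : ∀ q ∈ l, J ≤ q.1 := by
  induction h with
  | top => simp
  | @step J p x e l _ _ _ _ hp _ ih =>
    rintro q (_ | ⟨_, hq⟩)
    · exact fun a ha => (hp a).2 (J.mul_mem_left x ha)
    · exact le_sup_left.trans (ih q hq)

theorem Fil.prime {J : Ideal S} {l : List (Ideal S × ℕ)} (h : Fil δ J l) :
    ∀ q ∈ l, q.1.IsPrime ∧ q.1.IsHomogeneous (weightedHomogeneousSubmodule F δ) := by
  induction h with
  | top => simp
  | @step J p x e l _ _ hpp hph _ _ ih =>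
    rintro q (_ | ⟨_, hq⟩)
    · exact ⟨hpp, hph⟩
    · exact ih q hq

theorem Fil.prod_le {J : Ideal S} {l : List (Ideal S × ℕ)} (h : Fil δ J l) : (l.map Prod.fst).prod ≤ J := by
  induction h with
  | top => exact le_top
  | @step J p x e l _ _ _ _ hp _ ih =>
    rw [List.map_cons, List.prod_cons]
    refine (Ideal.mul_mono_right ih).trans ?_
    rw [Ideal.mul_sup]
    refine sup_le Ideal.mul_le_right ?_
    rw [Ideal.mul_le]
    intro a ha b hb
    obtain ⟨c, rfl⟩ := Ideal.mem_span_singleton'.1 hb
    rw [mul_left_comm, mul_comm a x]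
    exact J.mul_mem_left c ((hp a).1 ha)

theorem Fil.mem_minimal {J : Ideal S} {l : List (Ideal S × ℕ)} (h : Fil δ J l) {P : Ideal S}
    (hP : P ∈ J.minimalPrimes) : ∃ q ∈ l, q.1 = P := by
  obtain ⟨q, hq, hqP⟩ : ∃ q ∈ l, q.1 ≤ P := by
    have hle : (l.map Prod.fst).prod ≤ P := h.prod_le.trans hP.1.2
    clear h
    induction l with
    | nil => exact absurd (top_le_iff.1 (by simpa using hle)) hP.1.1.ne_top
    | cons a l ih =>
      rw [List.map_cons, List.prod_cons] at hle
      rcases (Ideal.IsPrime.mul_le hP.1.1).1 hle with h1 | h1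
      · exact ⟨a, List.mem_cons_self, h1⟩
      · obtain ⟨q, hq, h2⟩ := ih h1
        exact ⟨q, List.mem_cons_of_mem _ hq, h2⟩
  exact ⟨q, hq, le_antisymm hqP (hP.2 ⟨(h.prime q hq).1, h.le q hq⟩ hqP)⟩

section step

variable {J p : Ideal (MvPolynomial (Fin N) F)} {x : MvPolynomial (Fin N) F}
  (hp : ∀ a : MvPolynomial (Fin N) F, a ∈ p ↔ x * a ∈ J)
include hp

/-- Multiplication by `x` from the quotient by the colon ideal. -/
def colonMap : (MvPolynomial (Fin N) F ⧸ p) →ₗ[MvPolynomial (Fin N) F] MvPolynomial (Fin N) F ⧸ J :=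
  Submodule.mapQ p J (LinearMap.mulLeft S x) fun a ha => (hp a).1 ha

theorem colonMap_mk (a : S) : colonMap hp (Ideal.Quotient.mk p a) = Ideal.Quotient.mk J (x * a) := rfl

theorem colonMap_injective : Function.Injective (colonMap hp) := by
  rw [injective_iff_map_eq_zero]
  intro q hq
  obtain ⟨a, rfl⟩ := Ideal.Quotient.mk_surjective q
  rw [colonMap_mk, Ideal.Quotient.eq_zero_iff_mem] at hq
  exact Ideal.Quotient.eq_zero_iff_mem.2 ((hp a).2 hq)

theorem colonMap_exact : Function.Exact (colonMap hp)
    (Submodule.factor (le_sup_left : J ≤ J ⊔ Ideal.span {x})) := by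
  intro q
  obtain ⟨a, rfl⟩ := Ideal.Quotient.mk_surjective q
  constructor
  · intro h
    obtain ⟨j, hj, z, hz, rfl⟩ := Submodule.mem_sup.1 ((Submodule.Quotient.mk_eq_zero _).1 h)
    obtain ⟨c, rfl⟩ := Ideal.mem_span_singleton'.1 hz
    refine ⟨Ideal.Quotient.mk p c, ?_⟩
    rw [colonMap_mk, mul_comm x c, map_add, Ideal.Quotient.eq_zero_iff_mem.2 hj, zero_add]
  · rintro ⟨q', h⟩
    obtain ⟨c, rfl⟩ := Ideal.Quotient.mk_surjective q'
    rw [← h, colonMap_mk]
    exact (Submodule.Quotient.mk_eq_zero _).2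
      (Submodule.mem_sup_right (Ideal.mul_mem_right c _ (Ideal.mem_span_singleton_self x)))

theorem finrank_piece_colon (hδ : ∀ i, 0 < δ i) (hJ : J.IsHomogeneous (weightedHomogeneousSubmodule F δ)) {e : ℕ}
    (he : IsWeightedHomogeneous δ x e) (u : ℕ) :
    Module.finrank F (piece δ J u) = Module.finrank F (piece δ (J ⊔ Ideal.span {x}) u) +
      if e ≤ u then Module.finrank F (piece δ p (u - e)) else 0 := by
  haveI := finite_piece δ hδ J
  let q : (S ⧸ J) →ₗ[F] S ⧸ (J ⊔ Ideal.span {x}) :=
    (Submodule.factor (le_sup_left : J ≤ J ⊔ Ideal.span {x})).restrictScalars F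
  let L : (S ⧸ p) →ₗ[F] S ⧸ J := (colonMap hp).restrictScalars F
  let f := q.domRestrict (piece δ J u)
  have hrange : LinearMap.range f = piece δ (J ⊔ Ideal.span {x}) u := by
    rw [LinearMap.range_domRestrict, piece, piece, ← Submodule.map_comp]
    rfl
  have hker : Submodule.map (piece δ J u).subtype (LinearMap.ker f) = piece δ J u ⊓ LinearMap.ker q := by
    rw [LinearMap.ker_domRestrict]
    exact Submodule.map_comap_subtype _ _
  rw [← LinearMap.finrank_range_add_finrank_ker f, hrange,
    ← Submodule.finrank_map_subtype_eq (piece δ J u) (LinearMap.ker f), hker]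
  congr 1
  have hsplit : ∀ a, IsWeightedHomogeneous δ a u → a ∈ J ⊔ Ideal.span {x} →
      (e ≤ u → ∃ b, IsWeightedHomogeneous δ b (u - e) ∧ a - x * b ∈ J) ∧ (¬ e ≤ u → a ∈ J) := by
    intro a ha ha'
    obtain ⟨j, hj, z, hz, rfl⟩ := Submodule.mem_sup.1 ha'
    obtain ⟨b, rfl⟩ := Ideal.mem_span_singleton'.1 hz
    have h1 := weightedHomogeneousComponent_eq_self ha
    rw [map_add, mul_comm b x, comp_mul δ he] at h1
    refine ⟨fun h => ⟨_, weightedHomogeneousComponent_isWeightedHomogeneous (u - e) b, ?_⟩, fun h => ?_⟩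
    · rw [if_pos h] at h1
      rw [mul_comm b x, ← h1, add_sub_cancel_right]
      exact comp_mem δ hJ hj u
    · rw [if_neg h, add_zero] at h1
      rw [mul_comm b x, ← h1]
      exact comp_mem δ hJ hj u
  split_ifs with h
  · have : (piece δ p (u - e)).map L = piece δ J u ⊓ LinearMap.ker q := by
      refine le_antisymm ?_ ?_
      · rintro _ ⟨w, hw, rfl⟩
        obtain ⟨a, ha, rfl⟩ := (mem_piece δ).1 hw
        refine ⟨(mem_piece δ).2 ⟨x * a, ?_, rfl⟩, ((colonMap_exact hp) _).2 ⟨_, rfl⟩⟩
        have := he.mul ha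
        rwa [Nat.add_sub_cancel' h] at this
      · rintro y ⟨hy, hyq⟩
        obtain ⟨a, ha, rfl⟩ := (mem_piece δ).1 hy
        obtain ⟨b, hb, hab⟩ := (hsplit a ha ((Submodule.Quotient.mk_eq_zero _).1 hyq)).1 h
        exact ⟨Ideal.Quotient.mk p b, (mem_piece δ).2 ⟨b, hb, rfl⟩, (Ideal.Quotient.eq.2 hab).symm⟩
    rw [← this]
    exact ((Submodule.equivMapOfInjective L (colonMap_injective hp) _).finrank_eq).symm
  · have : piece δ J u ⊓ LinearMap.ker q = ⊥ := by
      rw [eq_bot_iff]
      rintro y ⟨hy, hyq⟩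
      obtain ⟨a, ha, rfl⟩ := (mem_piece δ).1 hy
      exact Ideal.Quotient.eq_zero_iff_mem.2 ((hsplit a ha ((Submodule.Quotient.mk_eq_zero _).1 hyq)).2 h)
    rw [this, finrank_bot]

theorem length_colon (P : Ideal S) [P.IsPrime] :
    Module.length (Localization.AtPrime P) (LocalizedModule P.primeCompl (S ⧸ J)) =
      Module.length (Localization.AtPrime P) (LocalizedModule P.primeCompl (S ⧸ p)) +
        Module.length (Localization.AtPrime P) (LocalizedModule P.primeCompl (S ⧸ (J ⊔ Ideal.span {x}))) :=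
  Module.length_eq_add_of_exact (LocalizedModule.map P.primeCompl (colonMap hp))
    (LocalizedModule.map P.primeCompl (Submodule.factor (le_sup_left : J ≤ J ⊔ Ideal.span {x})))
    (LocalizedModule.map_injective _ _ (colonMap_injective hp))
    (LocalizedModule.map_surjective _ _ (Submodule.factor_surjective _))
    (LocalizedModule.map_exact P.primeCompl _ _ (colonMap_exact hp))

end step

theorem length_quot_self (P : Ideal S) [P.IsPrime] :
    Module.length (Localization.AtPrime P) (LocalizedModule P.primeCompl (S ⧸ P)) = 1 := by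
  rw [Module.length_eq_one_iff, isSimpleModule_iff_toSpanSingleton_surjective]
  refine ⟨⟨⟨LocalizedModule.mk (Ideal.Quotient.mk P 1) 1, 0, fun h => ?_⟩⟩, fun y hy => fun z => ?_⟩
  · rw [← LocalizedModule.zero_mk 1, LocalizedModule.mk_eq] at h
    obtain ⟨⟨t, ht⟩, h⟩ := h
    simp only [smul_zero, Submonoid.smul_def, OneMemClass.coe_one, one_smul] at h
    apply ht
    refine Ideal.Quotient.eq_zero_iff_mem.1 ?_
    rw [← mul_one t, ← smul_mk]
    exact h
  · induction y using LocalizedModule.induction_on with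
    | _ m s =>
      induction z using LocalizedModule.induction_on with
      | _ m' s' =>
        obtain ⟨a, rfl⟩ := Ideal.Quotient.mk_surjective m
        obtain ⟨a', rfl⟩ := Ideal.Quotient.mk_surjective m'
        have ha : a ∈ P.primeCompl := fun h => hy (by
          rw [Ideal.Quotient.eq_zero_iff_mem.2 h, LocalizedModule.zero_mk])
        refine ⟨Localization.mk (a' * (s : S)) (⟨a, ha⟩ * s'), ?_⟩
        show Localization.mk (a' * (s : S)) (⟨a, ha⟩ * s') • LocalizedModule.mk (Ideal.Quotient.mk P a) s = _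
        rw [LocalizedModule.mk_smul_mk, LocalizedModule.mk_eq]
        refine ⟨1, ?_⟩
        simp only [one_smul, Submonoid.smul_def, Submonoid.coe_mul]
        simp only [smul_mk]
        congr 1
        ring

theorem length_quot_of_not_le (P p : Ideal S) [P.IsPrime] (h : ¬ p ≤ P) :
    Module.length (Localization.AtPrime P) (LocalizedModule P.primeCompl (S ⧸ p)) = 0 := by
  rw [Module.length_eq_zero_iff]
  obtain ⟨t, htp, htP⟩ := SetLike.not_le_iff_exists.1 h
  refine subsingleton_of_forall_eq 0 fun z => ?_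
  induction z using LocalizedModule.induction_on with
  | _ m s =>
    obtain ⟨a, rfl⟩ := Ideal.Quotient.mk_surjective m
    rw [← LocalizedModule.zero_mk 1, LocalizedModule.mk_eq]
    refine ⟨⟨t, htP⟩, ?_⟩
    simp only [Submonoid.smul_def, OneMemClass.coe_one, one_smul, smul_zero]
    show t • Ideal.Quotient.mk p a = _
    rw [smul_mk]
    exact Ideal.Quotient.eq_zero_iff_mem.2 (p.mul_mem_right a htp)

open scoped Classical in
theorem Fil.length_eq {I J : Ideal S} {l : List (Ideal S × ℕ)} (h : Fil δ J l) {P : Ideal S}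
    (hP : P ∈ I.minimalPrimes) (hIJ : I ≤ J) :
    haveI := hP.1.1
    Module.length (Localization.AtPrime P) (LocalizedModule P.primeCompl (S ⧸ J)) =
      ((l.filter fun q => q.1 = P).length : ℕ∞) := by
  haveI := hP.1.1
  induction h with
  | top =>
    rw [length_quot_of_not_le P ⊤ fun h => hP.1.1.ne_top (top_le_iff.1 h)]
    rfl
  | @step J p x e l hJ he hpp hph hp _ ih =>
    rw [length_colon hp P, ih (hIJ.trans le_sup_left), List.filter_cons]
    by_cases hpP : p = P
    · subst hpP
      rw [length_quot_self p]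
      simp [add_comm]
    · rw [length_quot_of_not_le P p fun hle => hpP
        (le_antisymm hle (hP.2 ⟨hpp, hIJ.trans fun a ha => (hp a).2 (J.mul_mem_left x ha)⟩ hle))]
      simp [hpP]

end Groth.Agent.WCI
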