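import Groth.Agent.WCI.Diff
import Groth.Agent.WCI.Filtration
import Groth.Agent.VarDim.Proj

/-!
# Hilbert polynomials of graded quotients of a polynomial ring
-/

set_option autoImplicit false
set_option linter.unusedSectionVars false
set_option linter.style.haveILetI false
set_option backward.isDefEq.respectTransparency false
set_option backward.isDefEq.respectTransparency.types false

universe u

open MvPolynomial Order Filter

noncomputable section

attribute [local instance] MvPolynomial.weightedGradedAlgebra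

namespace Groth.Agent.WCI

open Groth.Agent.VarDim Groth.Agent.VarDim.ProjN

variable {F : Type u} [Field F] {n : ℕ}

/-- The constant weight. -/
abbrev one (n : ℕ) : Fin (n + 1) → ℕ := 1

/-- Dimension of a quotient, as a natural number. -/
def dimI (I : Ideal (MvPolynomial (Fin (n + 1)) F)) : ℕ :=
  ((ringKrullDim (MvPolynomial (Fin (n + 1)) F ⧸ I)).unbotD 0).toNat

theorem coheight_eq_dimI (p : PrimeSpectrum (MvPolynomial (Fin (n + 1)) F)) :
    coheight p = (dimI p.asIdeal : ℕ∞) := by
  rw [dimI, ← coheight_eq_ringKrullDim_quotient, WithBot.unbotD_coe, ENat.coe_toNat (coheight_ne_top F p)]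

theorem dimI_lt {p q : Ideal (MvPolynomial (Fin (n + 1)) F)} (hp : p.IsPrime) (hq : q.IsPrime) (h : p < q) :
    dimI q < dimI p := by
  have h1 : (⟨p, hp⟩ : PrimeSpectrum (MvPolynomial (Fin (n + 1)) F)) < ⟨q, hq⟩ := h
  have h2 := coheight_add_one_le h1
  rw [coheight_eq_dimI, coheight_eq_dimI] at h2
  exact_mod_cast h2

theorem dimI_le {p q : Ideal (MvPolynomial (Fin (n + 1)) F)} (hp : p.IsPrime) (hq : q.IsPrime) (h : p ≤ q) :
    dimI q ≤ dimI p := by
  rcases h.eq_or_lt with rfl | h
  exacts [le_rfl, (dimI_lt hp hq h).le]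

theorem le_dimI_add_one {p q : Ideal (MvPolynomial (Fin (n + 1)) F)} (hp : p.IsPrime)
    {f : MvPolynomial (Fin (n + 1)) F} (hq : q ∈ (p ⊔ Ideal.span {f}).minimalPrimes) : dimI p ≤ dimI q + 1 := by
  have h := coheight_le_of_mem_minimalPrimes_sup (k := F) (q := ⟨p, hp⟩) (p := ⟨q, hq.1.1⟩) {f}
    (by simpa using hq)
  rw [coheight_eq_dimI, coheight_eq_dimI, Finset.card_singleton] at h
  exact_mod_cast h

theorem isHomogeneous_iff {I : Ideal (MvPolynomial (Fin (n + 1)) F)} :
    I.IsHomogeneous (CohB1.polyGrading n F) ↔ I.IsHomogeneous (weightedHomogeneousSubmodule F (one n)) := by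
  have h1 : ∀ (q : MvPolynomial (Fin (n + 1)) F) (v : ℕ),
      (DirectSum.decompose (weightedHomogeneousSubmodule F (one n)) q v : MvPolynomial (Fin (n + 1)) F) =
        homogeneousComponent v q := fun q v =>
    MvPolynomial.weightedDecomposition.decompose'_apply F (one n) q v
  constructor <;> intro h u a ha <;> have := h u ha
  · rw [h1]; rwa [proj_apply] at this
  · rw [proj_apply]; rwa [h1] at this

theorem eq_vertex_of_dimI {p : Ideal (MvPolynomial (Fin (n + 1)) F)} (hp : p.IsPrime)
    (hh : p.IsHomogeneous (weightedHomogeneousSubmodule F (one n))) (h : dimI p = 0) : p = vertex F n := by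
  have hle := le_vertex_of_isHomogeneous (isHomogeneous_iff.2 hh) hp.ne_top
  by_contra hne
  have := dimI_lt hp vertex_isMaximal.isPrime (lt_of_le_of_ne hle hne)
  omega

theorem dimI_vertex : dimI (vertex F n) = 0 := by
  have h := coheight_eq_dimI (vertexPoint F n)
  rw [coheight_vertexPoint] at h
  exact_mod_cast h.symm

theorem exists_X_notMem {p : Ideal (MvPolynomial (Fin (n + 1)) F)} (hp : p.IsPrime)
    (hh : p.IsHomogeneous (weightedHomogeneousSubmodule F (one n))) (h : 0 < dimI p) : ∃ i, X i ∉ p := by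
  by_contra hc
  push Not at hc
  have hle : vertex F n ≤ p := by
    refine le_trans (fun a ha => ?_) (Ideal.span_le.2 (by rintro _ ⟨j, rfl⟩; exact hc j) :
      Ideal.span (Set.range (X : Fin (n + 1) → MvPolynomial (Fin (n + 1)) F)) ≤ p)
    rw [← Set.image_univ, mem_ideal_span_X_image]
    intro m hm
    by_contra h'
    push Not at h'
    have : m = 0 := Finsupp.ext fun j => h' j trivial
    subst this
    exact (mem_support_iff.1 hm) ha
  have := dimI_le vertex_isMaximal.isPrime hp hle
  rw [dimI_vertex] at this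
  omega

/-- The polynomial agrees with the Hilbert function in large degrees. -/
def Ev (I : Ideal (MvPolynomial (Fin (n + 1)) F)) (P : Polynomial ℚ) : Prop :=
  ∀ᶠ m : ℕ in atTop, (Module.finrank F (piece (one n) I m) : ℚ) = P.eval (m : ℚ)

theorem Ev.unique {I : Ideal (MvPolynomial (Fin (n + 1)) F)} {P Q : Polynomial ℚ} (h : Ev I P) (h' : Ev I Q) :
    P = Q :=
  eq_of_eventually ((h.and h').mono fun _ hm => hm.1.symm.trans hm.2)

/-- The Hilbert polynomial. -/
def hpoly (I : Ideal (MvPolynomial (Fin (n + 1)) F)) : Polynomial ℚ :=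
  @Classical.epsilon _ ⟨0⟩ (Ev I)

theorem hpoly_eq {I : Ideal (MvPolynomial (Fin (n + 1)) F)} {P : Polynomial ℚ} (h : Ev I P) : hpoly I = P :=
  Ev.unique (Classical.epsilon_spec (p := Ev I) ⟨P, h⟩) h

/-- The expected leading coefficient. -/
def lc (I : Ideal (MvPolynomial (Fin (n + 1)) F)) : ℚ := (hpoly I).coeff (dimI I - 1)

/-- What we prove of the Hilbert polynomial of a homogeneous prime. -/
def Good (p : Ideal (MvPolynomial (Fin (n + 1)) F)) : Prop :=
  Ev p (hpoly p) ∧ (hpoly p).natDegree ≤ dimI p - 1 ∧ (dimI p = 0 → hpoly p = 0) ∧ (1 ≤ dimI p → 0 < lc p)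

open scoped Classical in
theorem exists_sum {D : ℕ} {J : Ideal (MvPolynomial (Fin (n + 1)) F)}
    {l : List (Ideal (MvPolynomial (Fin (n + 1)) F) × ℕ)} (h : Fil (one n) J l) :
    (∀ q ∈ l, dimI q.1 ≤ D ∧ Good q.1) →
    ∃ P : Polynomial ℚ, Ev J P ∧ P.natDegree ≤ D - 1 ∧
      P.coeff (D - 1) = (l.map fun q => if dimI q.1 = D then lc q.1 else 0).sum := by
  induction h with
  | top =>
    refine fun _ => ⟨0, Eventually.of_forall fun m => ?_, by simp, by simp⟩
    rw [show piece (one n) (⊤ : Ideal (MvPolynomial (Fin (n + 1)) F)) m = ⊥ from eq_bot_iff.2 fun x _ => by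
      haveI : Subsingleton (MvPolynomial (Fin (n + 1)) F ⧸ (⊤ : Ideal (MvPolynomial (Fin (n + 1)) F))) :=
        Ideal.Quotient.subsingleton_iff.2 rfl
      exact Subsingleton.elim _ _, finrank_bot]
    simp
  | @step J p x e l hJ he hpp hph hp _ ih =>
    intro hl
    obtain ⟨P, hP, hPd, hPc⟩ := ih fun q hq => hl q (List.mem_cons_of_mem _ hq)
    obtain ⟨hD, hev, hdeg, h0, -⟩ := hl (p, e) List.mem_cons_self
    refine ⟨P + shift (e : ℚ) (hpoly p), ?_, ?_, ?_⟩
    · refine (hP.and (((tendsto_sub_atTop_nat e).eventually hev).and (eventually_ge_atTop e))).mono fun m hm => ?_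
      rw [finrank_piece_colon (δ := one n) hp (fun _ => Nat.one_pos) hJ he m, if_pos hm.2.2, Nat.cast_add, hm.1, hm.2.1,
        Polynomial.eval_add, eval_shift, Nat.cast_sub hm.2.2]
    · refine (Polynomial.natDegree_add_le _ _).trans (max_le hPd ?_)
      rw [natDegree_shift]
      exact hdeg.trans (Nat.sub_le_sub_right hD 1)
    · rw [Polynomial.coeff_add, hPc, List.map_cons, List.sum_cons, add_comm]
      congr 1
      simp only at hD h0 hdeg ⊢
      rw [coeff_shift_top (hdeg.trans (Nat.sub_le_sub_right hD 1))]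
      by_cases hd : dimI p = D
      · rw [if_pos hd, lc, hd]
      · rw [if_neg hd]
        rcases Nat.eq_zero_or_pos (dimI p) with h1 | h1
        · rw [h0 h1, Polynomial.coeff_zero]
        · exact Polynomial.coeff_eq_zero_of_natDegree_lt (lt_of_le_of_lt hdeg (by omega))

theorem good : ∀ (D : ℕ) (p : Ideal (MvPolynomial (Fin (n + 1)) F)), p.IsPrime →
    p.IsHomogeneous (weightedHomogeneousSubmodule F (one n)) → dimI p = D → Good p := by
  classical
  intro D
  induction D using Nat.strong_induction_on with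
  | _ D ih =>
    intro p hp hh hD
    rcases Nat.eq_zero_or_pos D with rfl | hpos
    · have hv := eq_vertex_of_dimI hp hh hD
      have hev : Ev p 0 := by
        refine (eventually_ge_atTop 1).mono fun m hm => ?_
        have h0 : piece (one n) p m = ⊥ := eq_bot_iff.2 fun y hy => by
          obtain ⟨a, ha, rfl⟩ := (mem_piece _).1 hy
          refine Ideal.Quotient.eq_zero_iff_mem.2 (hv ▸ ?_)
          show constantCoeff a = 0
          rw [constantCoeff_eq]
          exact IsWeightedHomogeneous.coeff_eq_zero ha 0 (by rw [map_zero]; omega)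
        rw [h0, finrank_bot]
        simp
      rw [Good, lc, hpoly_eq hev]
      exact ⟨hev, by simp, fun _ => rfl, fun h => by omega⟩
    obtain ⟨i, hi⟩ := exists_X_notMem hp hh (hD ▸ hpos)
    have hX : IsWeightedHomogeneous (one n) (X i : MvPolynomial (Fin (n + 1)) F) 1 :=
      isWeightedHomogeneous_X F (one n) i
    set J := p ⊔ Ideal.span {(X i : MvPolynomial (Fin (n + 1)) F)} with hJ
    have hJh : J.IsHomogeneous (weightedHomogeneousSubmodule F (one n)) :=
      hh.sup (Ideal.homogeneous_span _ _ (by rintro _ rfl; exact ⟨1, hX⟩))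
    obtain ⟨l, hl⟩ := exists_fil (one n) J hJh
    have hlt : ∀ q : Ideal (MvPolynomial (Fin (n + 1)) F), q.IsPrime → J ≤ q → dimI q < D := fun q hq hle => by
      rw [← hD]
      refine dimI_lt hp hq (lt_of_le_of_ne (le_sup_left.trans hle) fun h => hi ?_)
      rw [h]
      exact hle (Submodule.mem_sup_right (Ideal.mem_span_singleton_self _))
    have hall : ∀ q ∈ l, dimI q.1 ≤ D - 1 ∧ Good q.1 := fun q hq => by
      have h1 := hlt q.1 (hl.prime q hq).1 (hl.le q hq)
      exact ⟨by omega, ih _ h1 q.1 (hl.prime q hq).1 (hl.prime q hq).2 rfl⟩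
    obtain ⟨R, hR, hRd, hRc⟩ := exists_sum (D := D - 1) hl hall
    have hstep : ∀ m, Module.finrank F (piece (one n) p (m + 1)) =
        Module.finrank F (piece (one n) J (m + 1)) + Module.finrank F (piece (one n) p m) := fun m => by
      rw [finrank_piece_step (one n) (fun _ => Nat.one_pos) hh hX hJ
        (fun a ha => (hp.mem_or_mem ha).resolve_right hi) (m + 1), if_pos (Nat.le_add_left 1 m), Nat.add_sub_cancel]
    obtain ⟨P, hPd, hPR, hP⟩ := exists_poly_of_diff (fun m => (Module.finrank F (piece (one n) p m) : ℚ)) hRd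
      (((tendsto_add_atTop_nat 1).eventually hR).mono fun m hm => by
        rw [hstep, Nat.cast_add, hm, Nat.cast_add, Nat.cast_one, add_sub_cancel_right])
    have key : P.natDegree ≤ D - 1 ∧ 0 < P.coeff (D - 1) := by
      obtain ⟨m₁, hm₁⟩ : ∃ q ∈ l, dimI q.1 = D - 1 := by
        have hJle : J ≤ vertex F n := sup_le (le_vertex_of_isHomogeneous (isHomogeneous_iff.2 hh) hp.ne_top)
          ((Ideal.span_singleton_le_iff_mem _).2 (constantCoeff_X F i))
        obtain ⟨P₀, hP₀⟩ := Ideal.nonempty_minimalPrimes (I := J) fun h =>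
          vertex_isMaximal.ne_top (top_le_iff.1 (h.ge.trans hJle))
        obtain ⟨q, hq, rfl⟩ := hl.mem_minimal hP₀
        refine ⟨q, hq, ?_⟩
        have h1 := le_dimI_add_one hp hP₀
        have h2 := (hall q hq).1
        omega
      rcases Nat.eq_zero_or_pos (D - 1) with h1 | h1
      · rw [h1] at hRd hRc hPd hall
        have hR0 : R = 0 := by
          rw [Polynomial.eq_C_of_natDegree_le_zero hRd, hRc, List.sum_eq_zero, map_zero]
          intro x hx
          obtain ⟨q, hq, rfl⟩ := List.mem_map.1 hx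
          split_ifs with hq0
          · rw [lc, (hall q hq).2.2.2.1 hq0, Polynomial.coeff_zero]
          · rfl
        rw [hR0] at hPR
        have hP1 : P.coeff (0 + 1) = 0 := by
          have h := (natDegree_sub_shift 1 hPd).2
          rw [hPR, Polynomial.coeff_zero] at h
          simpa using h.symm
        have hP0 : P.natDegree ≤ 0 := Polynomial.natDegree_le_iff_coeff_eq_zero.2 fun j hj => by
          rcases (Nat.succ_le_of_lt hj).eq_or_lt with rfl | hj'
          · exact hP1
          · exact Polynomial.coeff_eq_zero_of_natDegree_lt (lt_of_le_of_lt hPd hj')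
        refine ⟨by omega, ?_⟩
        rw [h1]
        obtain ⟨m₀, hm₀⟩ := eventually_atTop.1 hP
        have h2 := hm₀ m₀ le_rfl
        rw [Polynomial.eq_C_of_natDegree_le_zero hP0, Polynomial.eval_C] at h2
        rw [← h2]
        haveI := finite_piece (one n) (fun _ => Nat.one_pos) p m₀
        haveI : Nontrivial ↥(piece (one n) p m₀) := by
          refine ⟨⟨⟨_, (mem_piece _).2 ⟨X i ^ m₀, by simpa using hX.pow m₀, rfl⟩⟩, 0, fun h => hi ?_⟩⟩
          exact hp.mem_of_pow_mem _ (Ideal.Quotient.eq_zero_iff_mem.1 (congrArg Subtype.val h))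
        exact_mod_cast Module.finrank_pos
      · have hpos' : 0 < R.coeff (D - 1 - 1) := by
          rw [hRc]
          have hnn : ∀ x ∈ l.map (fun q => if dimI q.1 = D - 1 then lc q.1 else 0), (0 : ℚ) ≤ x := by
            intro x hx
            obtain ⟨q, hq, rfl⟩ := List.mem_map.1 hx
            split_ifs with hq0
            · exact ((hall q hq).2.2.2.2 (by omega)).le
            · rfl
          obtain ⟨hq, hq1⟩ := hm₁
          refine lt_of_lt_of_le ((hall m₁ hq).2.2.2.2 (by omega)) ?_
          exact List.single_le_sum hnn _ (List.mem_map.2 ⟨m₁, hq, by rw [if_pos hq1]⟩)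
        have hPd' : P.natDegree ≤ (D - 1 - 1) + 1 := hPd
        have h := (natDegree_sub_shift 1 hPd').2
        rw [hPR] at h
        rw [show D - 1 - 1 + 1 = D - 1 by omega] at h hPd'
        refine ⟨hPd', ?_⟩
        rw [h, one_mul] at hpos'
        exact pos_of_mul_pos_right hpos' (by positivity)
    have hev : Ev p P := hP
    rw [Good, lc, hpoly_eq hev, hD]
    exact ⟨hev, key.1, fun h => by omega, fun _ => key.2⟩

theorem good_prime {p : Ideal (MvPolynomial (Fin (n + 1)) F)} (hp : p.IsPrime)
    (hh : p.IsHomogeneous (weightedHomogeneousSubmodule F (one n))) : Good p := good _ p hp hh rfl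

theorem natDegree_hpoly {p : Ideal (MvPolynomial (Fin (n + 1)) F)} (hp : p.IsPrime)
    (hh : p.IsHomogeneous (weightedHomogeneousSubmodule F (one n))) :
    (hpoly p).natDegree = dimI p - 1 ∧ (hpoly p).leadingCoeff = lc p := by
  obtain ⟨-, hd, h0, h1⟩ := good_prime hp hh
  rcases Nat.eq_zero_or_pos (dimI p) with h | h
  · rw [lc, h0 h]; simp [h]
  · have hdeg := le_antisymm hd (Polynomial.le_natDegree_of_ne_zero (h1 h).ne')
    exact ⟨hdeg, by rw [Polynomial.leadingCoeff, hdeg, lc]⟩

open scoped Classical in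
/-- The Hilbert polynomial of a homogeneous ideal. -/
theorem main (I : Ideal (MvPolynomial (Fin (n + 1)) F))
    (hI : I.IsHomogeneous (weightedHomogeneousSubmodule F (one n))) {r : ℕ}
    (p : Fin r → Ideal (MvPolynomial (Fin (n + 1)) F)) [hp : ∀ i, (p i).IsPrime] (hpinj : Function.Injective p)
    (hpmin : ∀ q, q ∈ I.minimalPrimes ↔ ∃ i, q = p i) (D : ℕ) (hD : ∀ i, dimI (p i) ≤ D) :
    ∃ P : Polynomial ℚ, Ev I P ∧ P.natDegree ≤ D - 1 ∧
      P.coeff (D - 1) = ∑ i, if dimI (p i) = D then lc (p i) *
        ((Module.length (Localization.AtPrime (p i)) (LocalizedModule (p i).primeCompl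
          (MvPolynomial (Fin (n + 1)) F ⧸ I))).toNat : ℚ) else 0 := by
  obtain ⟨l, hl⟩ := exists_fil (one n) I hI
  have hall : ∀ q ∈ l, dimI q.1 ≤ D ∧ Good q.1 := fun q hq => by
    haveI := (hl.prime q hq).1
    obtain ⟨P₀, hP₀, hle⟩ := Ideal.exists_minimalPrimes_le (hl.le q hq)
    obtain ⟨i, rfl⟩ := (hpmin P₀).1 hP₀
    exact ⟨(dimI_le (hp i) inferInstance hle).trans (hD i), good_prime inferInstance (hl.prime q hq).2⟩
  obtain ⟨P, hP, hPd, hPc⟩ := exists_sum (D := D) hl hall
  refine ⟨P, hP, hPd, hPc.trans ?_⟩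
  have hlen : ∀ i, (Module.length (Localization.AtPrime (p i)) (LocalizedModule (p i).primeCompl
      (MvPolynomial (Fin (n + 1)) F ⧸ I))).toNat = (l.filter fun q => q.1 = p i).length := fun i => by
    have h := hl.length_eq ((hpmin _).2 ⟨i, rfl⟩) le_rfl
    rw [h, ENat.toNat_natCast]
  simp only [hlen]
  clear hlen hP hPc hPd
  have key : ∀ l' : List (Ideal (MvPolynomial (Fin (n + 1)) F) × ℕ), (∀ q ∈ l', q ∈ l) →
      (l'.map fun q => if dimI q.1 = D then lc q.1 else 0).sum =
        ∑ i, if dimI (p i) = D then lc (p i) * ((l'.filter fun q => q.1 = p i).length : ℚ) else 0 := by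
    intro l'
    induction l' with
    | nil => simp
    | cons a l' ih =>
      intro hsub
      rw [List.map_cons, List.sum_cons, ih fun q hq => hsub q (List.mem_cons_of_mem _ hq)]
      have ha := hsub a List.mem_cons_self
      have hone : (if dimI a.1 = D then lc a.1 else 0) =
          ∑ i, if dimI (p i) = D then lc (p i) * (if a.1 = p i then (1 : ℚ) else 0) else 0 := by
        by_cases hda : dimI a.1 = D
        · haveI := (hl.prime a ha).1
          obtain ⟨P₀, hP₀, hle⟩ := Ideal.exists_minimalPrimes_le (hl.le a ha)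
          obtain ⟨i, rfl⟩ := (hpmin P₀).1 hP₀
          have heq : p i = a.1 := hle.eq_or_lt.resolve_right fun hlt => by
            have := dimI_lt (hp i) inferInstance hlt
            have := hD i
            omega
          rw [if_pos hda, Finset.sum_eq_single i]
          · rw [heq, if_pos hda, if_pos rfl, mul_one]
          · intro j _ hj
            split_ifs with h1 h2
            · exact absurd (hpinj (h2.symm.trans heq.symm)) hj
            · rw [mul_zero]
            · rfl
          · simp
        · rw [if_neg hda, Finset.sum_eq_zero]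
          intro j _
          split_ifs with h1 h2
          · rw [h2] at hda; exact absurd h1 hda
          · rw [mul_zero]
          · rfl
      rw [hone, ← Finset.sum_add_distrib]
      refine Finset.sum_congr rfl fun i _ => ?_
      rw [List.filter_cons]
      by_cases h1 : dimI (p i) = D
      · by_cases h2 : a.1 = p i
        · simp [h1, h2]; ring
        · simp [h1, h2]
      · simp [h1]
  exact key l fun _ hq => hq

theorem ringKrullDim_eq_dimI (I : Ideal (MvPolynomial (Fin (n + 1)) F)) (hI : I ≠ ⊤) :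
    ringKrullDim (MvPolynomial (Fin (n + 1)) F ⧸ I) = (dimI I : WithBot ℕ∞) ∧
      (∀ q ∈ I.minimalPrimes, dimI q ≤ dimI I) ∧ ∃ q ∈ I.minimalPrimes, dimI q = dimI I := by
  classical
  obtain ⟨q₀, hq₀⟩ := Ideal.nonempty_minimalPrimes hI
  have hfin := Ideal.finite_minimalPrimes_of_isNoetherianRing (MvPolynomial (Fin (n + 1)) F) I
  obtain ⟨q, hq, hmax⟩ := hfin.exists_maximalFor dimI _ ⟨q₀, hq₀⟩
  have hmax' : ∀ q' ∈ I.minimalPrimes, dimI q' ≤ dimI q := fun q' hq' => by
    by_contra h
    exact h (hmax hq' (le_of_not_ge h))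
  have heq : ringKrullDim (MvPolynomial (Fin (n + 1)) F ⧸ I) = (dimI q : WithBot ℕ∞) := by
    refine le_antisymm ?_ ?_
    · rw [ringKrullDim_quotient, Order.krullDim]
      refine iSup_le fun l => ?_
      haveI := l.head.1.2
      obtain ⟨P₀, hP₀, hle⟩ := Ideal.exists_minimalPrimes_le (show I ≤ l.head.1.asIdeal from l.head.2)
      have h1 : (l.length : ℕ∞) ≤ coheight l.head.1 :=
        length_le_coheight (p := l.map Subtype.val (fun _ _ h => h)) (x := l.head.1) (by simp)
      rw [coheight_eq_dimI] at h1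
      have h2 : dimI l.head.1.asIdeal ≤ dimI q := (dimI_le hP₀.1.1 inferInstance hle).trans (hmax' P₀ hP₀)
      have h3 : l.length ≤ dimI l.head.1.asIdeal := by exact_mod_cast h1
      exact_mod_cast h3.trans h2
    · have h1 := coheight_eq_ringKrullDim_quotient (⟨q, hq.1.1⟩ : PrimeSpectrum (MvPolynomial (Fin (n + 1)) F))
      rw [coheight_eq_dimI] at h1
      exact le_of_eq_of_le (by exact_mod_cast h1)
        (ringKrullDim_le_of_surjective (Ideal.Quotient.factor hq.1.2) (Ideal.Quotient.factor_surjective hq.1.2))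
  have hval : dimI I = dimI q := by
    conv_lhs => rw [dimI, heq]
    rfl
  exact ⟨hval ▸ heq, fun q' hq' => hval ▸ hmax' q' hq', q, hq, hval.symm⟩

end Groth.Agent.WCI
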