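import Groth.Agent.WCI.Series
import Groth.Agent.CotTLib.CI
import Groth.Agent.SmoothDim.Basic

/-!
# Homogeneous systems of parameters of a polynomial ring are regular sequences
-/

set_option autoImplicit false
set_option linter.style.haveILetI false
set_option backward.isDefEq.respectTransparency false
set_option backward.isDefEq.respectTransparency.types false

universe u

open MvPolynomial

noncomputable section

attribute [local instance] MvPolynomial.weightedGradedAlgebra

namespace Groth.Agent.WCI

variable {F : Type u} [Field F] {N : ℕ} (δ : Fin N → ℕ)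

theorem coeff_zero_of_homogeneous {p : MvPolynomial (Fin N) F} {u : ℕ} (hp : IsWeightedHomogeneous δ p u)
    (hu : 0 < u) : constantCoeff p = 0 := by
  rw [constantCoeff_eq]
  exact hp.coeff_eq_zero 0 (by rw [map_zero]; exact hu.ne)

theorem mem_of_smul_mem (hδ : ∀ i, 0 < δ i) {J : Ideal (MvPolynomial (Fin N) F)}
    (hJ : J.IsHomogeneous (weightedHomogeneousSubmodule F δ)) {s x : MvPolynomial (Fin N) F}
    (hs : constantCoeff s ≠ 0) (h : s * x ∈ J) : x ∈ J := by
  classical
  rw [mem_iff_weightedHomogeneousComponent_mem F δ hJ]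
  intro u
  induction u using Nat.strong_induction_on with
  | _ u ih =>
    have h1 := comp_mem δ hJ h u
    rw [← sum_weightedHomogeneousComponent δ s, finsum_eq_sum _ (weightedHomogeneousComponent_finsupp s),
      Finset.sum_mul, map_sum] at h1
    have h2 : weightedHomogeneousComponent δ u (weightedHomogeneousComponent δ 0 s * x) ∈ J := by
      by_cases h0 : 0 ∈ (weightedHomogeneousComponent_finsupp (w := δ) s).toFinset
      · rw [← Finset.add_sum_erase _ _ h0] at h1
        refine (Submodule.add_mem_iff_left _ (Submodule.sum_mem _ fun j hj => ?_)).1 h1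
        rw [comp_mul δ (weightedHomogeneousComponent_isWeightedHomogeneous j s)]
        split_ifs with hju
        · exact J.mul_mem_left _ (ih _ (by have := Finset.ne_of_mem_erase hj; omega))
        · exact J.zero_mem
      · rw [Set.Finite.mem_toFinset, Function.mem_support, not_not] at h0
        rw [h0, zero_mul, map_zero]
        exact J.zero_mem
    rw [comp_mul δ (weightedHomogeneousComponent_isWeightedHomogeneous 0 s), if_pos (Nat.zero_le _),
      Nat.sub_zero] at h2
    have h3 : weightedHomogeneousComponent δ 0 s = C (constantCoeff s) := by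
      refine MvPolynomial.ext _ _ fun m => ?_
      rw [coeff_weightedHomogeneousComponent, coeff_C, constantCoeff_eq]
      by_cases hm : 0 = m
      · subst hm; simp
      · rw [if_neg hm, if_neg]
        intro hw
        refine hm (Finsupp.ext fun i => ?_)
        have := (Finsupp.le_weight δ (hδ i).ne' m).trans_eq hw
        rw [Finsupp.zero_apply]
        omega
    rw [h3] at h2
    have := J.mul_mem_left (C (constantCoeff s)⁻¹) h2
    rwa [← mul_assoc, ← C_mul, inv_mul_cancel₀ hs, C_1, one_mul] at this

theorem regSeq_of_dim (hδ : ∀ i, 0 < δ i) {r : ℕ} (g : Fin r → MvPolynomial (Fin N) F) (e : Fin r → ℕ)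
    (he : ∀ i, 0 < e i) (hg : ∀ i, IsWeightedHomogeneous δ (g i) (e i))
    (hdim : ringKrullDim (MvPolynomial (Fin N) F ⧸ Ideal.span (Set.range g)) + (r : WithBot ℕ∞) ≤ (N : WithBot ℕ∞)) :
    RegSeq g := by
  classical
  let m : Ideal (MvPolynomial (Fin N) F) := RingHom.ker (constantCoeff (R := F) (σ := Fin N))
  haveI hmax : m.IsMaximal := RingHom.ker_isMaximal_of_surjective _ fun a => ⟨C a, constantCoeff_C _ a⟩
  haveI : m.IsPrime := hmax.isPrime
  let A := Localization.AtPrime m
  haveI : IsRegularLocalRing A := IsRegularRing.isRegularLocalRing_localization (R := MvPolynomial (Fin N) F) m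
  have hA : ringKrullDim A = (N : WithBot ℕ∞) := by
    rw [IsLocalization.AtPrime.ringKrullDim_eq_height m A, show m.height = (N : ℕ∞) from by
      rw [show m = (⟨m, inferInstance⟩ : PrimeSpectrum (MvPolynomial (Fin N) F)).asIdeal from rfl,
        PrimeSpectrum.height_eq_orderHeight, SmoothDim.height_maximal_mvPolynomial F N _ hmax]]
    rfl
  let φ : MvPolynomial (Fin N) F →+* A := algebraMap _ _
  let rs : List A := List.ofFn fun i => φ (g i)
  have hlist : Ideal.ofList rs = (Ideal.span (Set.range g)).map φ := by
    rw [Ideal.map_span, ← Set.range_comp, Ideal.ofList]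
    congr 1
    ext x
    simp [rs, List.mem_ofFn]
  have hmem : ∀ x ∈ rs, x ∈ IsLocalRing.maximalIdeal A := by
    intro x hx
    obtain ⟨i, rfl⟩ := List.mem_ofFn.1 hx
    rw [← Localization.AtPrime.map_eq_maximalIdeal]
    exact Ideal.mem_map_of_mem _ (coeff_zero_of_homogeneous δ (hg i) (he i))
  have hle : ringKrullDim (A ⧸ Ideal.ofList rs) ≤
      ringKrullDim (MvPolynomial (Fin N) F ⧸ Ideal.span (Set.range g)) := by
    rw [hlist]
    haveI : IsLocalization (Algebra.algebraMapSubmonoid (MvPolynomial (Fin N) F ⧸ Ideal.span (Set.range g))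
        m.primeCompl) (A ⧸ (Ideal.span (Set.range g)).map φ) := inferInstance
    refine Order.krullDim_le_of_strictMono
      (PrimeSpectrum.comap (algebraMap (MvPolynomial (Fin N) F ⧸ Ideal.span (Set.range g))
        (A ⧸ (Ideal.span (Set.range g)).map φ))) (Monotone.strictMono_of_injective (fun a b h => Ideal.comap_mono h) ?_)
    exact PrimeSpectrum.localization_comap_injective _
      (Algebra.algebraMapSubmonoid (MvPolynomial (Fin N) F ⧸ Ideal.span (Set.range g)) m.primeCompl)
  have hreg : RingTheory.Sequence.IsWeaklyRegular A rs := by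
    refine CotTLib.isWeaklyRegular_of_dim rs hmem (le_antisymm ?_ ?_)
    · rw [show rs.length = r from List.length_ofFn, hA, add_comm]
      exact (add_le_add_left hle _).trans hdim
    · have := ringKrullDim_le_ringKrullDim_quotient_add_card (R := A) rs.toFinset
        (fun x hx => IsLocalRing.ringJacobson_eq_maximalIdeal A ▸ hmem x (List.mem_toFinset.1 hx))
      rw [List.coe_toFinset] at this
      refine this.trans ?_
      rw [add_comm]
      exact add_le_add_left (by exact_mod_cast List.toFinset_card_le rs) _
  rw [← regSeq_iff] at hreg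
  intro k x hx
  have himg : (Ideal.span (g '' Set.Iio k)).map φ = Ideal.span ((fun i => φ (g i)) '' Set.Iio k) := by
    rw [Ideal.map_span, Set.image_image]
  have h1 : φ x ∈ (Ideal.span (g '' Set.Iio k)).map φ := by
    rw [himg]
    refine hreg k (φ x) ?_
    rw [← himg, ← map_mul]
    exact Ideal.mem_map_of_mem φ hx
  obtain ⟨s, hs, h2⟩ := (IsLocalization.algebraMap_mem_map_algebraMap_iff m.primeCompl A _ _).1 h1
  exact mem_of_smul_mem δ hδ (isHomogeneous_span δ hg _) (fun h => hs (RingHom.mem_ker.2 h)) h2

theorem regSeq_of_finite (hδ : ∀ i, 0 < δ i) (g : Fin N → MvPolynomial (Fin N) F) (e : Fin N → ℕ)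
    (he : ∀ i, 0 < e i) (hg : ∀ i, IsWeightedHomogeneous δ (g i) (e i))
    [Module.Finite F (MvPolynomial (Fin N) F ⧸ Ideal.span (Set.range g))] : RegSeq g := by
  refine regSeq_of_dim δ hδ g e he hg ?_
  haveI : IsArtinianRing (MvPolynomial (Fin N) F ⧸ Ideal.span (Set.range g)) :=
    IsArtinianRing.of_finite F _
  refine le_trans (add_le_add_left (Ring.krullDimLE_iff.1 (inferInstance : Ring.KrullDimLE 0 (MvPolynomial (Fin N) F ⧸ Ideal.span (Set.range g)))) _) ?_
  simp

end Groth.Agent.WCI
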