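import Groth.Agent.WCI.Bezout

/-!
# Bézout for two plane curves, in the affine chart
-/

set_option autoImplicit false
set_option linter.style.haveILetI false
set_option backward.isDefEq.respectTransparency false
set_option backward.isDefEq.respectTransparency.types false

universe u

open MvPolynomial

noncomputable section

attribute [local instance] MvPolynomial.weightedGradedAlgebra

namespace Groth.Agent.WCI

theorem exists_last_step {F : Type u} [Field F] {N r : ℕ} {δ : Fin N → ℕ} {J : Ideal (MvPolynomial (Fin N) F)}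
    (hJ : J.IsHomogeneous (weightedHomogeneousSubmodule F δ)) {T a w : MvPolynomial (Fin N) F}
    (hT : IsWeightedHomogeneous δ T 1) (hreg : ∀ x, x * T ∈ J → x ∈ J) (ha : IsWeightedHomogeneous δ a r)
    (h : a - (1 - T) * w ∈ J) : a ∈ J := by
  classical
  have hc : ∀ v, (weightedHomogeneousComponent δ v a - (weightedHomogeneousComponent δ v w -
      if 1 ≤ v then T * weightedHomogeneousComponent δ (v - 1) w else 0)) ∈ J := fun v => by
    have := comp_mem δ hJ h v
    rwa [map_sub, sub_mul, one_mul, map_sub, comp_mul δ hT] at this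
  have hlow : ∀ v, v < r → weightedHomogeneousComponent δ v w ∈ J := by
    intro v
    induction v with
    | zero =>
      intro hv
      have := hc 0
      rw [weightedHomogeneousComponent_of_mem ha, if_neg (by omega), if_neg (by omega), sub_zero, zero_sub,
        neg_mem_iff] at this
      exact this
    | succ v ih =>
      intro hv
      have := hc (v + 1)
      rw [weightedHomogeneousComponent_of_mem ha, if_neg (by omega), if_pos (by omega), Nat.add_sub_cancel,
        zero_sub, neg_mem_iff] at this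
      exact (Submodule.sub_mem_iff_left _ (J.mul_mem_left T (ih (by omega)))).1 this
  have hhigh : ∀ i, T ^ i * a - weightedHomogeneousComponent δ (r + i) w ∈ J := by
    intro i
    induction i with
    | zero =>
      have h0 := hc r
      rw [weightedHomogeneousComponent_eq_self ha] at h0
      by_cases hr : 1 ≤ r
      · rw [if_pos hr, sub_sub_eq_add_sub] at h0
        have h2 := J.sub_mem h0 (J.mul_mem_left T (hlow (r - 1) (by omega)))
        convert h2 using 1
        rw [pow_zero, one_mul, add_zero]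
        ring
      · rw [if_neg hr, sub_zero] at h0
        rwa [pow_zero, one_mul, add_zero]
    | succ i ih =>
      have h1 := hc (r + (i + 1))
      rw [weightedHomogeneousComponent_of_mem ha, if_neg (by omega), if_pos (by omega),
        show r + (i + 1) - 1 = r + i by omega] at h1
      have h2 := J.add_mem h1 (J.mul_mem_left T ih)
      convert h2 using 1
      rw [pow_succ]
      ring
  obtain ⟨B, hB⟩ := exists_comp_eq_zero δ w
  have h3 := hhigh B
  rw [hB _ (Nat.le_add_left B r), sub_zero] at h3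
  have hpow : ∀ i, T ^ i * a ∈ J → a ∈ J := by
    intro i
    induction i with
    | zero => simp
    | succ i ih => intro h4; exact ih (hreg _ (by rwa [pow_succ, mul_right_comm] at h4))
  exact hpow B h3

theorem finite_of_hs {F : Type u} [Field F] {N : ℕ} (δ : Fin N → ℕ) (hδ : ∀ i, 0 < δ i)
    {J : Ideal (MvPolynomial (Fin N) F)} (hJ : J.IsHomogeneous (weightedHomogeneousSubmodule F δ))
    (P : Polynomial ℤ) (hP : hs δ J = (P : PowerSeries ℤ)) : Module.Finite F (MvPolynomial (Fin N) F ⧸ J) := by
  classical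
  haveI := finite_piece δ hδ J
  refine Module.finite_def.2 ?_
  have htop : (⊤ : Submodule F (MvPolynomial (Fin N) F ⧸ J)) = (Finset.range (P.natDegree + 1)).sup (piece δ J) := by
    refine eq_comm.1 (top_le_iff.1 fun x _ => ?_)
    obtain ⟨p, rfl⟩ := Ideal.Quotient.mk_surjective x
    rw [← sum_weightedHomogeneousComponent δ p, finsum_eq_sum _ (weightedHomogeneousComponent_finsupp p), map_sum]
    refine Submodule.sum_mem _ fun v _ => ?_
    by_cases hv : v < P.natDegree + 1
    · exact (Finset.le_sup (f := piece δ J) (Finset.mem_range.2 hv)) ⟨_, weightedHomogeneousComponent_mem δ p v, rfl⟩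
    · have h0 : piece δ J v = ⊥ := by
        have := congrArg (PowerSeries.coeff v) hP
        rw [hs, PowerSeries.coeff_mk, Polynomial.coeff_coe, Polynomial.coeff_eq_zero_of_natDegree_lt (by omega)] at this
        exact Submodule.finrank_eq_zero.1 (by exact_mod_cast this)
      have hm : Ideal.Quotient.mk J (weightedHomogeneousComponent δ v p) ∈ piece δ J v :=
        ⟨_, weightedHomogeneousComponent_mem δ p v, rfl⟩
      rw [h0, Submodule.mem_bot] at hm
      rw [hm]
      exact zero_mem _
  rw [htop]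
  refine Finset.sup_induction Submodule.fg_bot (fun a ha b hb => ha.sup hb) fun v _ => ?_
  exact Module.Finite.iff_fg.1 (finite_piece δ hδ J v)

theorem regSeq_pair {A : Type u} [CommRing A] [IsDomain A] [DecompositionMonoid A] {a b : A} (ha : a ≠ 0)
    (h : IsRelPrime a b) : RegSeq ![a, b] := by
  have h0 : Set.Iio (0 : Fin 2) = ∅ := Set.ext fun i => by simp
  have h1 : Set.Iio (1 : Fin 2) = {0} := Set.ext (Fin.forall_fin_two.2 ⟨by simp, by simp⟩)
  refine Fin.forall_fin_two.2 ⟨fun x hx => ?_, fun x hx => ?_⟩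
  · simp only [h0, Set.image_empty, Ideal.span_empty, Submodule.mem_bot, Matrix.cons_val_zero] at hx ⊢
    exact (mul_eq_zero.1 hx).resolve_right ha
  · simp only [h1, Set.image_singleton, Ideal.mem_span_singleton, Matrix.cons_val_zero, Matrix.cons_val_one] at hx ⊢
    exact h.dvd_of_dvd_mul_right hx

variable {k : Type u} [Field k]

/-- Substituting the last variable by a constant. -/
def sub2 (c : k) : MvPolynomial (Fin 3) k →ₐ[k] MvPolynomial (Fin 2) k :=
  aeval ![X 0, X 1, C c]

theorem sub2_homogeneous {f : MvPolynomial (Fin 3) k} {n : ℕ} (hf : f.IsHomogeneous n) :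
    (sub2 (0 : k) f).IsHomogeneous n := by
  have hv : ∀ i : Fin 3, (![X 0, X 1, C 0] i : MvPolynomial (Fin 2) k).IsHomogeneous 1 :=
    Fin.forall_fin_succ.2 ⟨isHomogeneous_X k 0, Fin.forall_fin_succ.2 ⟨isHomogeneous_X k 1, Fin.forall_fin_succ.2
      ⟨by simp [isHomogeneous_zero], fun i => i.elim0⟩⟩⟩
  have := MvPolynomial.IsHomogeneous.aeval hf (S := k) ![X 0, X 1, C 0] hv
  rwa [one_mul] at this

set_option backward.isDefEq.respectTransparency true in
set_option backward.isDefEq.respectTransparency.types true in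
theorem decompositionMonoid_two : DecompositionMonoid (MvPolynomial (Fin 2) k) := inferInstance

theorem finite_pair {n m : ℕ} {a b : MvPolynomial (Fin 2) k} (hn : 0 < n) (hm : 0 < m) (hfa : a.IsHomogeneous n)
    (hgb : b.IsHomogeneous m) (hT : IsRelPrime a b) : Module.Finite k (MvPolynomial (Fin 2) k ⧸ Ideal.span (Set.range ![a, b])) := by
  haveI := decompositionMonoid_two (k := k)
  have hne : a ≠ 0 := by
    intro h0
    rw [h0, isRelPrime_zero_left] at hT
    have h1 := hT.map (constantCoeff (R := k) (σ := Fin 2))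
    rw [constantCoeff_eq, hgb.coeff_eq_zero (d := 0) (by simpa using hm.ne)] at h1
    exact not_isUnit_zero h1
  have hreg0 := regSeq_pair hne hT
  have hh : ∀ i, IsWeightedHomogeneous (1 : Fin 2 → ℕ) (![a, b] i) (![n, m] i) := fun i => by
    fin_cases i
    · exact hfa
    · exact hgb
  have h := hs_mul_prod (1 : Fin 2 → ℕ) (fun _ => Nat.one_pos) _ _ hh hreg0
  rw [← coe_prod_one_sub, ← coe_prod_one_sub] at h
  have h2 : (∏ i : Fin 2, ((1 : Polynomial ℤ) - Polynomial.X ^ (![n, m] i))) =
      (∏ i, ∑ j ∈ Finset.range (![n, m] i), Polynomial.X ^ j) * ∏ i : Fin 2, ((1 : Polynomial ℤ) - Polynomial.X ^ ((1 : Fin 2 → ℕ) i)) := by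
    rw [← Finset.prod_mul_distrib]
    refine Finset.prod_congr rfl fun i _ => ?_
    rw [Pi.one_apply, pow_one, mul_comm, ← one_sub_pow]
  rw [h2, Polynomial.coe_mul] at h
  refine finite_of_hs (1 : Fin 2 → ℕ) (fun _ => Nat.one_pos) ?_ _ (mul_right_cancel₀ ?_ h)
  · rw [show (Ideal.span (Set.range ![a, b])) = Ideal.span (![a, b] '' Set.univ) by rw [Set.image_univ]]
    exact isHomogeneous_span _ hh _
  · rw [← Polynomial.coe_zero, Ne, Polynomial.coe_inj]
    exact Finset.prod_ne_zero_iff.2 fun i _ => sub_ne_zero.2 fun h => by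
      simpa using congrArg (Polynomial.eval (0 : ℤ)) h

theorem finite_triple (f g : MvPolynomial (Fin 3) k)
    (hfin0 : Module.Finite k (MvPolynomial (Fin 2) k ⧸ Ideal.span (Set.range ![sub2 (0 : k) f, sub2 (0 : k) g]))) :
    Module.Finite k (MvPolynomial (Fin 3) k ⧸ Ideal.span (Set.range ![f, g, X 2])) := by
  let up : MvPolynomial (Fin 2) k →ₐ[k] MvPolynomial (Fin 3) k := rename Fin.castSucc
  let gs : Fin 3 → MvPolynomial (Fin 3) k := ![f, g, X 2]
  let J0 := Ideal.span (Set.range ![sub2 (0 : k) f, sub2 (0 : k) g])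
  let ρ : MvPolynomial (Fin 2) k →ₐ[k] MvPolynomial (Fin 3) k ⧸ Ideal.span (Set.range gs) :=
    (Ideal.Quotient.mkₐ k _).comp up
  have hcomp : ρ.comp (sub2 (0 : k)) = Ideal.Quotient.mkₐ k (Ideal.span (Set.range gs)) := by
    refine MvPolynomial.algHom_ext fun i => ?_
    fin_cases i
    · simp [ρ, sub2, up]
    · simp [ρ, sub2, up]
    · simp only [AlgHom.comp_apply, sub2, aeval_X]
      show ρ (C (0 : k)) = _
      rw [map_zero, map_zero]
      exact (Ideal.Quotient.eq_zero_iff_mem.2 (Ideal.subset_span (show (X 2 : MvPolynomial (Fin 3) k) ∈ Set.range ![f, g, X 2] from ⟨2, rfl⟩))).symm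
  have hρ : Function.Surjective ρ := fun q => by
    obtain ⟨p, rfl⟩ := Ideal.Quotient.mk_surjective q
    exact ⟨sub2 (0 : k) p, DFunLike.congr_fun hcomp p⟩
  have hker : ∀ a ∈ J0, ρ a = 0 := fun a ha => by
    refine (Ideal.span_le.2 ?_ : J0 ≤ RingHom.ker ρ.toRingHom) ha
    rintro _ ⟨i, rfl⟩
    fin_cases i
    · exact (DFunLike.congr_fun hcomp f).trans (Ideal.Quotient.eq_zero_iff_mem.2 (Ideal.subset_span (show (f : MvPolynomial (Fin 3) k) ∈ Set.range ![f, g, X 2] from ⟨0, rfl⟩)))
    · exact (DFunLike.congr_fun hcomp g).trans (Ideal.Quotient.eq_zero_iff_mem.2 (Ideal.subset_span (show (g : MvPolynomial (Fin 3) k) ∈ Set.range ![f, g, X 2] from ⟨1, rfl⟩)))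
  exact Module.Finite.of_surjective (Ideal.Quotient.liftₐ J0 ρ hker).toLinearMap fun q => by
    obtain ⟨a, rfl⟩ := hρ q
    exact ⟨Ideal.Quotient.mk J0 a, rfl⟩

theorem finrank_dehom (n m : ℕ) (f g : MvPolynomial (Fin 3) k) (hf : f.IsHomogeneous n) (hg : g.IsHomogeneous m)
    (hn : 0 < n) (hm : 0 < m) (hT : IsRelPrime (sub2 0 f) (sub2 0 g)) :
    Module.finrank k (MvPolynomial (Fin 2) k ⧸ Ideal.span {sub2 1 f, sub2 1 g}) = n * m := by
  classical
  have hrange2 : ∀ {N : ℕ} (a b : MvPolynomial (Fin N) k), Set.range ![a, b] = {a, b} := fun a b => by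
    simp [Set.pair_comm]
  let up : MvPolynomial (Fin 2) k →ₐ[k] MvPolynomial (Fin 3) k := rename Fin.castSucc
  let gs : Fin 3 → MvPolynomial (Fin 3) k := ![f, g, X 2]
  haveI hfin3 : Module.Finite k (MvPolynomial (Fin 3) k ⧸ Ideal.span (Set.range gs)) :=
    finite_triple f g (finite_pair hn hm (sub2_homogeneous hf) (sub2_homogeneous hg) hT)
  have hh3 : ∀ i, IsWeightedHomogeneous (1 : Fin 3 → ℕ) (gs i) (![n, m, 1] i) := fun i => by
    fin_cases i
    · exact hf
    · exact hg
    · exact isHomogeneous_X k 2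
  have hreg3 : RegSeq gs := regSeq_of_finite (1 : Fin 3 → ℕ) (fun _ => Nat.one_pos) gs ![n, m, 1]
    (fun i => by fin_cases i <;> simp [hn, hm]) hh3
  have hreg2 : RegSeq ![f, g] := by
    intro j x hx
    have hI : gs '' Set.Iio j.castSucc = ![f, g] '' Set.Iio j := by
      rw [← Fin.image_castSucc_Iio, Set.image_image]
      refine Set.image_congr fun i _ => ?_
      fin_cases i <;> rfl
    have hj : gs j.castSucc = ![f, g] j := by fin_cases j <;> rfl
    rw [← hI] at hx ⊢
    rw [← hj] at hx
    exact hreg3 _ x hx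
  set J := Ideal.span (Set.range ![f, g]) with hJdef
  have hJ : J.IsHomogeneous (weightedHomogeneousSubmodule k (1 : Fin 3 → ℕ)) := by
    rw [hJdef, ← Set.image_univ]
    exact isHomogeneous_span _ (e := ![n, m]) (fun i => by
      fin_cases i
      · exact hf
      · exact hg) _
  have hTreg : ∀ x, x * X 2 ∈ J → x ∈ J := by
    have hI : gs '' Set.Iio (Fin.last 2) = Set.range ![f, g] := by
      ext y
      constructor
      · rintro ⟨i, hi, rfl⟩
        fin_cases i
        · exact ⟨0, rfl⟩
        · exact ⟨1, rfl⟩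
        · simp at hi
      · rintro ⟨i, rfl⟩
        fin_cases i
        · exact ⟨0, by decide, rfl⟩
        · exact ⟨1, by decide, rfl⟩
    intro x hx
    have := hreg3 (Fin.last 2) x (by rw [hI]; exact hx)
    rwa [hI] at this
  obtain ⟨m₀, hm₀⟩ := exists_eventually_piece_of_regSeq (n := 2) ![f, g] ![n, m] (fun i => by
    fin_cases i
    · exact hf
    · exact hg) hreg2
  set I := Ideal.span {sub2 (1 : k) f, sub2 (1 : k) g} with hIdef
  have hJI : J.map (sub2 (1 : k)) = I := by
    rw [hJdef, hrange2, Ideal.map_span, Set.image_pair]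
  let D : (MvPolynomial (Fin 3) k ⧸ J) →ₐ[k] MvPolynomial (Fin 2) k ⧸ I :=
    Ideal.quotientMapₐ I (sub2 (1 : k)) (Ideal.map_le_iff_le_comap.1 hJI.le)
  let P : ℕ → Submodule k (MvPolynomial (Fin 3) k ⧸ J) := piece (1 : Fin 3 → ℕ) J
  let V : ℕ → Submodule k (MvPolynomial (Fin 2) k ⧸ I) := fun v => (P v).map D.toLinearMap
  have hker1 : ∀ a, a - up (sub2 (1 : k) a) ∈ Ideal.span {(1 : MvPolynomial (Fin 3) k) - X 2} := by
    intro a
    rw [← Ideal.Quotient.eq]
    have hcomp : (Ideal.Quotient.mkₐ k (Ideal.span {(1 : MvPolynomial (Fin 3) k) - X 2})).comp (up.comp (sub2 (1 : k))) =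
        Ideal.Quotient.mkₐ k _ := by
      refine MvPolynomial.algHom_ext fun i => ?_
      fin_cases i
      · simp [sub2, up]
      · simp [sub2, up]
      · simp only [AlgHom.comp_apply, sub2, aeval_X]
        show Ideal.Quotient.mk _ (up (C (1 : k))) = Ideal.Quotient.mk _ (X 2)
        rw [map_one, map_one, Ideal.Quotient.eq]
        exact Ideal.mem_span_singleton_self _
    exact (DFunLike.congr_fun hcomp a).symm
  have hinj : ∀ v, Function.Injective (D.toLinearMap.domRestrict (P v)) := fun v => by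
    rw [injective_iff_map_eq_zero]
    rintro ⟨x, hx⟩ h
    obtain ⟨a, ha, rfl⟩ := (mem_piece _).1 hx
    replace h : sub2 (1 : k) a ∈ J.map (sub2 (1 : k)) := hJI ▸ Ideal.Quotient.eq_zero_iff_mem.1 h
    obtain ⟨b, hb, hab⟩ := (Ideal.mem_map_iff_of_surjective (sub2 (1 : k)) (fun q => ⟨up q, by
      refine DFunLike.congr_fun (f := (sub2 (1 : k)).comp up) (g := AlgHom.id k _) ?_ q
      refine MvPolynomial.algHom_ext fun i => ?_
      fin_cases i <;> simp [sub2, up]⟩)).1 h
    obtain ⟨w, hw⟩ := Ideal.mem_span_singleton'.1 (hker1 (a - b))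
    rw [map_sub, hab, sub_self, map_zero, sub_zero] at hw
    refine Subtype.ext (Ideal.Quotient.eq_zero_iff_mem.2
      (exists_last_step hJ (isHomogeneous_X k 2) hTreg ha (w := w) ?_))
    rw [mul_comm, hw, sub_sub_cancel]
    exact hb
  have hdim : ∀ v, m₀ ≤ v → Module.finrank k (V v) = n * m := fun v hv => by
    rw [show V v = LinearMap.range (D.toLinearMap.domRestrict (P v)) from (LinearMap.range_domRestrict _ _).symm,
      LinearMap.finrank_range_of_inj (hinj v), hm₀ v hv]
    simp
  have hmono : ∀ v, V v ≤ V (v + 1) := fun v => by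
    rintro _ ⟨x, hx, rfl⟩
    obtain ⟨a, ha, rfl⟩ := (mem_piece _).1 hx
    refine ⟨Ideal.Quotient.mk J (a * X 2), (mem_piece _).2 ⟨_, ha.mul (isHomogeneous_X k 2), rfl⟩, ?_⟩
    show Ideal.Quotient.mk I (sub2 (1 : k) (a * X 2)) = Ideal.Quotient.mk I (sub2 (1 : k) a)
    simp [sub2]
  haveI : ∀ v, Module.Finite k (V v) := fun v =>
    Module.Finite.iff_fg.2 ((Module.Finite.iff_fg.1 (finite_piece (1 : Fin 3 → ℕ) (fun _ => Nat.one_pos) J v)).map _)
  have hconst : ∀ i, V (m₀ + i) = V m₀ := by
    intro i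
    induction i with
    | zero => rfl
    | succ i ih =>
      rw [← ih]
      exact (Submodule.eq_of_le_of_finrank_eq (hmono (m₀ + i))
        (by rw [hdim _ (by omega), hdim _ (by omega)])).symm
  have htop : V m₀ = ⊤ := top_le_iff.1 fun q _ => by
    obtain ⟨p, rfl⟩ := Ideal.Quotient.mk_surjective q
    have hq : Ideal.Quotient.mk I p = D (Ideal.Quotient.mk J (up p)) := by
      show _ = Ideal.Quotient.mk I (sub2 (1 : k) (up p))
      congr 1
      refine (DFunLike.congr_fun (f := (sub2 (1 : k)).comp up) (g := AlgHom.id k _) ?_ p).symm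
      refine MvPolynomial.algHom_ext fun i => ?_
      fin_cases i <;> simp [sub2, up]
    rw [hq, ← sum_weightedHomogeneousComponent (1 : Fin 3 → ℕ) (up p),
      finsum_eq_sum _ (weightedHomogeneousComponent_finsupp (up p)), map_sum, map_sum]
    refine Submodule.sum_mem _ fun v _ => ?_
    have hmem : D (Ideal.Quotient.mk J (weightedHomogeneousComponent (1 : Fin 3 → ℕ) v (up p))) ∈ V v :=
      ⟨_, ⟨_, weightedHomogeneousComponent_mem _ _ v, rfl⟩, rfl⟩
    have hle : V v ≤ V (m₀ + v) := by
      have := monotone_nat_of_le_succ hmono (Nat.le_add_left v m₀)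
      exact this
    rw [← hconst v]
    exact hle hmem
  rw [← finrank_top, ← htop, hdim m₀ le_rfl]

end Groth.Agent.WCI
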