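import Groth.Agent.WCI.Regular

/-!
# The Hilbert function of `n` forms in `n + 1` variables meeting in finitely many points
-/

set_option autoImplicit false
set_option linter.style.haveILetI false
set_option backward.isDefEq.respectTransparency false
set_option backward.isDefEq.respectTransparency.types false

universe u

open MvPolynomial

noncomputable section

namespace Groth.Agent.WCI

variable {F : Type u} [Field F] {n : ℕ}

theorem exists_eventually_piece_of_regSeq (f : Fin n → MvPolynomial (Fin (n + 1)) F) (d : Fin n → ℕ)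
    (hf : ∀ i, (f i).IsHomogeneous (d i)) (hreg : RegSeq f) :
    ∃ m₀ : ℕ, ∀ m, m₀ ≤ m →
      Module.finrank F (piece (1 : Fin (n + 1) → ℕ) (Ideal.span (Set.range f)) m) = ∏ i, d i := by
  have h := hs_mul_prod (1 : Fin (n + 1) → ℕ) (fun _ => Nat.one_pos) f d hf hreg
  rw [← coe_prod_one_sub, ← coe_prod_one_sub] at h
  let P : Polynomial ℤ := ∏ i, ∑ j ∈ Finset.range (d i), (Polynomial.X : Polynomial ℤ) ^ j
  have h1 : (∏ i : Fin (n + 1), ((1 : Polynomial ℤ) - Polynomial.X ^ ((1 : Fin (n + 1) → ℕ) i))) =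
      (1 - Polynomial.X) ^ n * (1 - Polynomial.X) := by
    simp [pow_succ]
  have h2 : (∏ i : Fin n, ((1 : Polynomial ℤ) - Polynomial.X ^ d i)) = (1 - Polynomial.X) ^ n * P := by
    simp only [one_sub_pow, Finset.prod_mul_distrib, Finset.prod_const, Finset.card_univ, Fintype.card_fin, P]
  rw [h1, h2, Polynomial.coe_mul, Polynomial.coe_mul, mul_left_comm] at h
  have hne : (((1 - Polynomial.X : Polynomial ℤ) ^ n : Polynomial ℤ) : PowerSeries ℤ) ≠ 0 := by
    rw [← Polynomial.coe_zero, Ne, Polynomial.coe_inj]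
    exact pow_ne_zero _ (sub_ne_zero.2 fun h => by simpa using congrArg (Polynomial.eval (0 : ℤ)) h)
  replace h := mul_left_cancel₀ hne h
  have hhs : hs (1 : Fin (n + 1) → ℕ) (Ideal.span (Set.range f)) = (P : PowerSeries ℤ) * PowerSeries.mk 1 := by
    rw [← h, mul_assoc, mul_comm ((1 - Polynomial.X : Polynomial ℤ) : PowerSeries ℤ), Polynomial.coe_sub,
      Polynomial.coe_one, Polynomial.coe_X, PowerSeries.mk_one_mul_one_sub_eq_one, mul_one]
  refine ⟨P.natDegree, fun m hm => ?_⟩
  have h3 := congrArg (PowerSeries.coeff m) hhs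
  rw [hs, PowerSeries.coeff_mk, PowerSeries.coeff_mul, Finset.Nat.sum_antidiagonal_eq_sum_range_succ_mk] at h3
  simp only [Polynomial.coeff_coe, PowerSeries.coeff_mk, Pi.one_apply, mul_one] at h3
  have h4 : P.eval 1 = ∑ j ∈ Finset.range (m + 1), P.coeff j := by
    rw [Polynomial.eval_eq_sum_range' (Nat.lt_succ_of_le hm)]
    simp
  rw [← h4] at h3
  simp only [P, Polynomial.eval_prod, Polynomial.eval_finsetSum, Polynomial.eval_pow, Polynomial.eval_X,
    one_pow, Finset.sum_const, Finset.card_range, nsmul_eq_mul, mul_one] at h3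
  exact_mod_cast h3

theorem exists_eventually_piece (f : Fin n → MvPolynomial (Fin (n + 1)) F) (d : Fin n → ℕ) (hd : ∀ i, 1 ≤ d i)
    (hf : ∀ i, (f i).IsHomogeneous (d i))
    (hdim : ringKrullDim (MvPolynomial (Fin (n + 1)) F ⧸ Ideal.span (Set.range f)) = 1) :
    ∃ m₀ : ℕ, ∀ m, m₀ ≤ m →
      Module.finrank F (piece (1 : Fin (n + 1) → ℕ) (Ideal.span (Set.range f)) m) = ∏ i, d i :=
  exists_eventually_piece_of_regSeq f d hf (regSeq_of_dim (1 : Fin (n + 1) → ℕ) (fun _ => Nat.one_pos) f d hd hf
    (by rw [hdim, add_comm, ← Nat.cast_one (R := WithBot ℕ∞), ← Nat.cast_add]))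

theorem finrank_piece_eq_sub (J : Ideal (MvPolynomial (Fin (n + 1)) F)) (m : ℕ) :
    Module.finrank F (piece (1 : Fin (n + 1) → ℕ) J m) =
      Module.finrank F ↥(homogeneousSubmodule (Fin (n + 1)) F m) -
        Module.finrank F ↥(J.restrictScalars F ⊓ homogeneousSubmodule (Fin (n + 1)) F m) := by
  haveI : Module.Finite F ↥(homogeneousSubmodule (Fin (n + 1)) F m) :=
    Module.Finite.iff_fg.2 (weightedHomogeneousSubmodule_fg F 1 (fun _ => Nat.one_ne_zero) m)
  let q := (Ideal.Quotient.mkₐ F J).toLinearMap.domRestrict (homogeneousSubmodule (Fin (n + 1)) F m)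
  have h := LinearMap.finrank_range_add_finrank_ker q
  have hr : LinearMap.range q = piece (1 : Fin (n + 1) → ℕ) J m := LinearMap.range_domRestrict _ _
  have hk : Submodule.map (homogeneousSubmodule (Fin (n + 1)) F m).subtype (LinearMap.ker q) =
      J.restrictScalars F ⊓ homogeneousSubmodule (Fin (n + 1)) F m := by
    rw [LinearMap.ker_domRestrict]
    refine (Submodule.map_comap_subtype _ _).trans ?_
    rw [inf_comm]
    congr 1
    ext x
    exact Ideal.Quotient.eq_zero_iff_mem
  rw [← Submodule.finrank_map_subtype_eq (homogeneousSubmodule (Fin (n + 1)) F m) (LinearMap.ker q), hk, hr] at h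
  omega

end Groth.Agent.WCI
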