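import Groth.Agent.WCI.HilbPoly
import Groth.Agent.WCI.Bezout

/-!
# Degree and dimension from the Hilbert polynomial
-/

set_option autoImplicit false
set_option linter.unusedSectionVars false
set_option linter.style.haveILetI false
set_option backward.isDefEq.respectTransparency false
set_option backward.isDefEq.respectTransparency.types false

universe u

open MvPolynomial Filter

noncomputable section

attribute [local instance] MvPolynomial.weightedGradedAlgebra

namespace Groth.Agent.WCI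

open Groth.Agent.VarDim.ProjN

variable {F : Type u} [Field F] {n : ℕ}

theorem ev_of {I : Ideal (MvPolynomial (Fin (n + 1)) F)} {P : Polynomial ℚ}
    (h : ∃ m₀ : ℕ, ∀ m : ℕ, m₀ ≤ m → P.eval (m : ℚ) = (Module.finrank F ↥(CohB1.polyGrading n F m) : ℚ) -
      Module.finrank F ↥(Submodule.restrictScalars F I ⊓ CohB1.polyGrading n F m)) : Ev I P := by
  refine (eventually_atTop.2 h).mono fun m hm => ?_
  rw [hm, show one n = (1 : Fin (n + 1) → ℕ) from rfl, finrank_piece_eq_sub]
  haveI : Module.Finite F ↥(homogeneousSubmodule (Fin (n + 1)) F m) :=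
    Module.Finite.iff_fg.2 (weightedHomogeneousSubmodule_fg F 1 (fun _ => Nat.one_ne_zero) m)
  rw [Nat.cast_sub (Submodule.finrank_mono inf_le_right)]

theorem dim_eq (I : Ideal (MvPolynomial (Fin (n + 1)) F)) (hI : I.IsHomogeneous (CohB1.polyGrading n F))
    (P : Polynomial ℚ) (hP : Ev I P) (hP0 : P ≠ 0) :
    ringKrullDim (MvPolynomial (Fin (n + 1)) F ⧸ I) = (P.natDegree : WithBot ℕ∞) + 1 ∧
      dimI I = P.natDegree + 1 := by
  classical
  by_cases hne : I = ⊤
  · refine absurd (Ev.unique hP ?_) hP0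
    refine Eventually.of_forall fun m => ?_
    rw [show piece (one n) I m = ⊥ from eq_bot_iff.2 fun x _ => by
      haveI : Subsingleton (MvPolynomial (Fin (n + 1)) F ⧸ I) := Ideal.Quotient.subsingleton_iff.2 hne
      exact Subsingleton.elim _ _, finrank_bot]
    simp
  obtain ⟨hdim, hle, q, hq, hqd⟩ := ringKrullDim_eq_dimI I hne
  have hfin := Ideal.finite_minimalPrimes_of_isNoetherianRing (MvPolynomial (Fin (n + 1)) F) I
  haveI := hfin.fintype
  let p : Fin (Fintype.card I.minimalPrimes) → Ideal (MvPolynomial (Fin (n + 1)) F) :=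
    fun i => ((Fintype.equivFin I.minimalPrimes).symm i).1
  haveI : ∀ i, (p i).IsPrime := fun i => ((Fintype.equivFin I.minimalPrimes).symm i).2.1.1
  have hpmin : ∀ q, q ∈ I.minimalPrimes ↔ ∃ i, q = p i := fun q => by
    refine ⟨fun h => ⟨Fintype.equivFin I.minimalPrimes ⟨q, h⟩, by simp [p]⟩, ?_⟩
    rintro ⟨i, rfl⟩
    exact ((Fintype.equivFin I.minimalPrimes).symm i).2
  obtain ⟨P', hP', hd, hc⟩ := main I (isHomogeneous_iff.1 hI) p
    (fun i j h => (Fintype.equivFin I.minimalPrimes).symm.injective (Subtype.ext h)) hpmin (dimI I)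
    (fun i => hle _ ((hpmin _).2 ⟨i, rfl⟩))
  obtain rfl := Ev.unique hP hP'
  obtain ⟨i₀, rfl⟩ := (hpmin q).1 hq
  have hh : ∀ i, (p i).IsHomogeneous (weightedHomogeneousSubmodule F (one n)) := fun i =>
    isHomogeneous_iff.1 (minimalPrimes_isHomogeneous hI ((hpmin _).2 ⟨i, rfl⟩))
  have hpos : 1 ≤ dimI I := by
    by_contra h
    push Not at h
    refine hP0 ?_
    rw [Polynomial.eq_C_of_natDegree_le_zero (hd.trans (by omega)), show (0 : ℕ) = dimI I - 1 by omega, hc,
      Finset.sum_eq_zero, map_zero]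
    intro i _
    split_ifs with h1
    · rw [lc, (good_prime inferInstance (hh i)).2.2.1 (by omega), Polynomial.coeff_zero, zero_mul]
    · rfl
  have hcpos : 0 < P.coeff (dimI I - 1) := by
    rw [hc]
    have hnn : ∀ i, 0 ≤ (if dimI (p i) = dimI I then lc (p i) *
        ((Module.length (Localization.AtPrime (p i)) (LocalizedModule (p i).primeCompl
          (MvPolynomial (Fin (n + 1)) F ⧸ I))).toNat : ℚ) else 0) := fun i => by
      split_ifs with h1
      · exact mul_nonneg ((good_prime inferInstance (hh i)).2.2.2 (by omega)).le (Nat.cast_nonneg _)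
      · rfl
    refine lt_of_lt_of_le ?_ (Finset.single_le_sum (fun i _ => hnn i) (Finset.mem_univ i₀))
    rw [if_pos hqd]
    refine mul_pos ((good_prime inferInstance (hh i₀)).2.2.2 (by omega)) ?_
    obtain ⟨l, hl⟩ := exists_fil (one n) I (isHomogeneous_iff.1 hI)
    obtain ⟨a, ha, hae⟩ := hl.mem_minimal hq
    rw [hl.length_eq hq le_rfl, ENat.toNat_natCast]
    exact_mod_cast List.length_pos_of_mem (List.mem_filter.2 ⟨ha, by simpa using hae⟩)
  have hdeg : P.natDegree = dimI I - 1 := le_antisymm hd (Polynomial.le_natDegree_of_ne_zero hcpos.ne')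
  exact ⟨by rw [hdim, show dimI I = P.natDegree + 1 by omega]; push_cast; rfl, by omega⟩

theorem degree_sum (I : Ideal (MvPolynomial (Fin (n + 1)) F)) (hI : I.IsHomogeneous (CohB1.polyGrading n F))
    (P : Polynomial ℚ) (hP : Ev I P) {r : ℕ} (p : Fin r → Ideal (MvPolynomial (Fin (n + 1)) F))
    [hp : ∀ i, (p i).IsPrime] (hpinj : Function.Injective p) (hpmin : ∀ q, q ∈ I.minimalPrimes ↔ ∃ i, q = p i)
    (Qp : Fin r → Polynomial ℚ) (hQp : ∀ i, Ev (p i) (Qp i)) :
    (P.natDegree.factorial : ℚ) * P.leadingCoeff = ∑ i, if (Qp i).natDegree = P.natDegree then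
      ((Qp i).natDegree.factorial : ℚ) * (Qp i).leadingCoeff *
        (Module.length (Localization.AtPrime (p i)) (LocalizedModule (p i).primeCompl
          (MvPolynomial (Fin (n + 1)) F ⧸ I))).toNat else 0 := by
  classical
  have hh : ∀ i, (p i).IsHomogeneous (weightedHomogeneousSubmodule F (one n)) := fun i =>
    isHomogeneous_iff.1 (minimalPrimes_isHomogeneous hI ((hpmin _).2 ⟨i, rfl⟩))
  have hQ : ∀ i, hpoly (p i) = Qp i := fun i => hpoly_eq (hQp i)
  let D := P.natDegree + 1
  have hD : ∀ i, dimI (p i) ≤ D := fun i => by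
    by_cases hne : I = ⊤
    · exact absurd ((top_le_iff.1 (hne ▸ ((hpmin _).2 ⟨i, rfl⟩).1.2))) (hp i).ne_top
    obtain ⟨-, hle, q, hq, hqd⟩ := ringKrullDim_eq_dimI I hne
    by_cases hP0 : P = 0
    · by_contra h
      simp only [D, hP0, Polynomial.natDegree_zero] at h
      obtain ⟨P', hP', -, hc⟩ := main I (isHomogeneous_iff.1 hI) p hpinj hpmin (dimI I) fun j => hle _ ((hpmin _).2 ⟨j, rfl⟩)
      obtain rfl := Ev.unique hP hP'
      obtain ⟨j, rfl⟩ := (hpmin q).1 hq
      have h2 : 1 ≤ dimI I := le_trans (by omega) (hle _ ((hpmin _).2 ⟨i, rfl⟩))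
      rw [hP0, Polynomial.coeff_zero] at hc
      refine absurd hc.symm (ne_of_gt ?_)
      refine lt_of_lt_of_le ?_ (Finset.single_le_sum (fun a _ => ?_) (Finset.mem_univ j))
      · rw [if_pos hqd]
        refine mul_pos ((good_prime inferInstance (hh j)).2.2.2 (by omega)) ?_
        obtain ⟨l, hl⟩ := exists_fil (one n) I (isHomogeneous_iff.1 hI)
        obtain ⟨a, ha, hae⟩ := hl.mem_minimal hq
        rw [hl.length_eq hq le_rfl, ENat.toNat_natCast]
        exact_mod_cast List.length_pos_of_mem (List.mem_filter.2 ⟨ha, by simpa using hae⟩)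
      · split_ifs with h1
        · exact mul_nonneg ((good_prime inferInstance (hh a)).2.2.2 (by omega)).le (Nat.cast_nonneg _)
        · rfl
    · have h1 := (dim_eq I hI P hP hP0).2
      have h2 := hle _ ((hpmin _).2 ⟨i, rfl⟩)
      omega
  obtain ⟨P', hP', hd, hc⟩ := main I (isHomogeneous_iff.1 hI) p hpinj hpmin D hD
  obtain rfl := Ev.unique hP hP'
  simp only [D, Nat.add_sub_cancel] at hc
  rw [Polynomial.leadingCoeff, hc, Finset.mul_sum]
  refine Finset.sum_congr rfl fun i _ => ?_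
  obtain ⟨hdeg, hlc⟩ := natDegree_hpoly inferInstance (hh i)
  rw [hQ] at hdeg hlc
  rw [hlc, hdeg]
  rcases Nat.eq_zero_or_pos (dimI (p i)) with h0 | h0
  · have hz : lc (p i) = 0 := by rw [lc, (good_prime inferInstance (hh i)).2.2.1 h0, Polynomial.coeff_zero]
    rw [if_neg (by omega), hz]
    simp
  · by_cases h1 : dimI (p i) = P.natDegree + 1
    · rw [if_pos h1, if_pos (by omega), show dimI (p i) - 1 = P.natDegree by omega]
      ring
    · rw [if_neg h1, if_neg (by omega), mul_zero]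

theorem hypersurface (I : Ideal (MvPolynomial (Fin (n + 1)) F)) (hI : I.IsHomogeneous (CohB1.polyGrading n F))
    [I.IsPrime] (f : MvPolynomial (Fin (n + 1)) F) (d : ℕ) (hd : 0 < d) (hf : f.IsHomogeneous d) (hfI : f ∉ I)
    (P Q : Polynomial ℚ) (hP : Ev I P) (hQ : Ev (I ⊔ Ideal.span {f}) Q) (hdim : 1 ≤ P.natDegree) :
    Q.natDegree + 1 = P.natDegree ∧
      (Q.natDegree.factorial : ℚ) * Q.leadingCoeff = d * ((P.natDegree.factorial : ℚ) * P.leadingCoeff) := by
  have hQe : Q = P - shift (d : ℚ) P := by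
    refine Ev.unique hQ ?_
    refine ((hP.and ((tendsto_sub_atTop_nat d).eventually hP)).and (eventually_ge_atTop d)).mono fun m hm => ?_
    have h := finrank_piece_step (one n) (fun _ => Nat.one_pos) (isHomogeneous_iff.1 hI) (g := f) (e := d) hf rfl
      (fun x hx => (Ideal.IsPrime.mem_or_mem inferInstance hx).resolve_right hfI) m
    rw [if_pos hm.2] at h
    have h' : (Module.finrank F (piece (one n) (I ⊔ Ideal.span {f}) m) : ℚ) =
        Module.finrank F (piece (one n) I m) - Module.finrank F (piece (one n) I (m - d)) := by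
      rw [h]; push_cast; ring
    rw [h', hm.1.1, hm.1.2, Polynomial.eval_sub, eval_shift, Nat.cast_sub hm.2]
  obtain ⟨k, hk⟩ : ∃ k, P.natDegree = k + 1 := ⟨P.natDegree - 1, by omega⟩
  obtain ⟨h1, h2⟩ := natDegree_sub_shift (d : ℚ) hk.le
  rw [← hQe] at h1 h2
  have hne : Q.coeff k ≠ 0 := by
    rw [h2, ← hk, Polynomial.coeff_natDegree]
    have : P ≠ 0 := fun h => by simp [h] at hdim
    have hl : P.leadingCoeff ≠ 0 := Polynomial.leadingCoeff_ne_zero.2 this
    have : (d : ℚ) ≠ 0 := Nat.cast_ne_zero.2 hd.ne'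
    positivity
  have hQd : Q.natDegree = k := le_antisymm h1 (Polynomial.le_natDegree_of_ne_zero hne)
  refine ⟨by omega, ?_⟩
  rw [Polynomial.leadingCoeff, hQd, h2, Polynomial.leadingCoeff, hk, Nat.factorial_succ]
  push_cast
  ring

theorem dimI_minimal_sup {I : Ideal (MvPolynomial (Fin (n + 1)) F)} [I.IsPrime]
    {f : MvPolynomial (Fin (n + 1)) F} (hfI : f ∉ I) {q : Ideal (MvPolynomial (Fin (n + 1)) F)}
    (hq : q ∈ (I ⊔ Ideal.span {f}).minimalPrimes) : dimI q + 1 = dimI I := by
  have h1 := le_dimI_add_one inferInstance hq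
  have h2 : dimI q < dimI I := dimI_lt inferInstance hq.1.1 (lt_of_le_of_ne (le_sup_left.trans hq.1.2) fun h =>
    hfI (h ▸ hq.1.2 (Submodule.mem_sup_right (Ideal.mem_span_singleton_self f))))
  omega

theorem bezout (I : Ideal (MvPolynomial (Fin (n + 1)) F)) (hI : I.IsHomogeneous (CohB1.polyGrading n F))
    [I.IsPrime] (f : MvPolynomial (Fin (n + 1)) F) (d : ℕ) (hd : 0 < d) (hf : f.IsHomogeneous d) (hfI : f ∉ I)
    (P : Polynomial ℚ) (hP : Ev I P) (hdim : 1 ≤ P.natDegree) {r : ℕ}
    (p : Fin r → Ideal (MvPolynomial (Fin (n + 1)) F)) [hp : ∀ i, (p i).IsPrime] (hpinj : Function.Injective p)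
    (hpmin : ∀ q, q ∈ (I ⊔ Ideal.span {f}).minimalPrimes ↔ ∃ i, q = p i)
    (Qp : Fin r → Polynomial ℚ) (hQp : ∀ i, Ev (p i) (Qp i)) :
    (d : ℚ) * ((P.natDegree.factorial : ℚ) * P.leadingCoeff) = ∑ i : Fin r,
      ((Qp i).natDegree.factorial : ℚ) * (Qp i).leadingCoeff *
        (Module.length (Localization.AtPrime (p i)) (LocalizedModule (p i).primeCompl
          (MvPolynomial (Fin (n + 1)) F ⧸ (I ⊔ Ideal.span {f})))).toNat := by
  have hJ : (I ⊔ Ideal.span {f}).IsHomogeneous (CohB1.polyGrading n F) :=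
    hI.sup (Ideal.homogeneous_span _ _ (by rintro _ rfl; exact ⟨d, hf⟩))
  obtain ⟨Q, hQ, -⟩ := main (I ⊔ Ideal.span {f}) (isHomogeneous_iff.1 hJ) p hpinj hpmin (dimI I)
    fun i => by have := dimI_minimal_sup hfI ((hpmin _).2 ⟨i, rfl⟩); omega
  obtain ⟨h1, h2⟩ := hypersurface I hI f d hd hf hfI P Q hP hQ hdim
  rw [← h2, degree_sum _ hJ Q hQ p hpinj hpmin Qp hQp]
  refine Finset.sum_congr rfl fun i _ => if_pos ?_
  have hmin := (hpmin _).2 ⟨i, rfl⟩
  have h3 := dimI_minimal_sup hfI hmin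
  have h4 := (dim_eq I hI P hP fun h => by simp [h] at hdim).2
  have h5 := (natDegree_hpoly (hp i) (isHomogeneous_iff.1 (minimalPrimes_isHomogeneous hJ hmin))).1
  rw [hpoly_eq (hQp i)] at h5
  omega

end Groth.Agent.WCI
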