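import Mathlib

/-!
# Hilbert series of weighted homogeneous complete intersections
-/

set_option autoImplicit false
set_option linter.unusedSectionVars false
set_option linter.style.haveILetI false
set_option backward.isDefEq.respectTransparency false
set_option backward.isDefEq.respectTransparency.types false

universe u

open MvPolynomial

noncomputable section

attribute [local instance] MvPolynomial.weightedGradedAlgebra

namespace Groth.Agent.WCI

/-- Each element is a non-zero-divisor modulo the previous ones. -/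
def RegSeq {A : Type u} [CommRing A] {r : ℕ} (g : Fin r → A) : Prop :=
  ∀ (k : Fin r) (x : A), x * g k ∈ Ideal.span (g '' Set.Iio k) → x ∈ Ideal.span (g '' Set.Iio k)

theorem regSeq_iff {A : Type u} [CommRing A] {r : ℕ} (g : Fin r → A) :
    RegSeq g ↔ RingTheory.Sequence.IsWeaklyRegular A (List.ofFn g) := by
  rw [RingTheory.Sequence.isWeaklyRegular_iff A, RegSeq]
  have hspan : ∀ (i : ℕ) (h : i < r),
      (Ideal.ofList ((List.ofFn g).take i) • (⊤ : Submodule A A)) = Ideal.span (g '' Set.Iio ⟨i, h⟩) := by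
    intro i h
    rw [smul_eq_mul, Ideal.mul_top]
    refine congrArg Ideal.span (Set.ext fun y => ?_)
    simp only [Set.mem_setOf_eq, List.mem_take_iff_getElem, List.getElem_ofFn, Set.mem_image, Set.mem_Iio]
    constructor
    · rintro ⟨j, hj, rfl⟩
      exact ⟨⟨j, by simp only [List.length_ofFn] at hj; omega⟩, Fin.lt_def.2 (lt_min_iff.1 hj).1, rfl⟩
    · rintro ⟨j, hj, rfl⟩
      exact ⟨j.1, lt_min (Fin.lt_def.1 hj) (by rw [List.length_ofFn]; exact j.2), rfl⟩
  constructor
  · intro H i hi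
    have hi' : i < r := by simpa using hi
    refine isSMulRegular_iff_right_eq_zero_of_smul.2 fun y hy => ?_
    obtain ⟨y, rfl⟩ := Submodule.Quotient.mk_surjective _ y
    rw [← Submodule.Quotient.mk_smul, Submodule.Quotient.mk_eq_zero, hspan i hi', smul_eq_mul,
      List.getElem_ofFn, mul_comm] at hy
    rw [Submodule.Quotient.mk_eq_zero, hspan i hi']
    exact H _ y hy
  · intro H k x hx
    have h := isSMulRegular_iff_right_eq_zero_of_smul.1 (H k.1 (by simp)) (Submodule.Quotient.mk x)
      (by rw [← Submodule.Quotient.mk_smul, Submodule.Quotient.mk_eq_zero, hspan k.1 k.2, smul_eq_mul,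
        List.getElem_ofFn, mul_comm]; exact hx)
    rwa [Submodule.Quotient.mk_eq_zero, hspan k.1 k.2] at h

section graded

variable {R : Type u} [CommRing R] {N : ℕ} (δ : Fin N → ℕ)

/-- The image of the polynomials of weighted degree `u`. -/
def piece (J : Ideal (MvPolynomial (Fin N) R)) (u : ℕ) : Submodule R (MvPolynomial (Fin N) R ⧸ J) :=
  Submodule.map (Ideal.Quotient.mkₐ R J).toLinearMap (weightedHomogeneousSubmodule R δ u)

theorem mem_piece {J : Ideal (MvPolynomial (Fin N) R)} {u : ℕ} {x : MvPolynomial (Fin N) R ⧸ J} :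
    x ∈ piece δ J u ↔ ∃ a, IsWeightedHomogeneous δ a u ∧ Ideal.Quotient.mk J a = x :=
  Iff.rfl

theorem comp_mul {g : MvPolynomial (Fin N) R} {e : ℕ} (hg : IsWeightedHomogeneous δ g e)
    (p : MvPolynomial (Fin N) R) (u : ℕ) :
    weightedHomogeneousComponent δ u (g * p) =
      if e ≤ u then g * weightedHomogeneousComponent δ (u - e) p else 0 := by
  have h := DirectSum.coe_decompose_mul_of_left_mem (weightedHomogeneousSubmodule R δ) u (b := p) hg
  have h1 : ∀ (q : MvPolynomial (Fin N) R) (v : ℕ),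
      (DirectSum.decompose (weightedHomogeneousSubmodule R δ) q v : MvPolynomial (Fin N) R) =
        weightedHomogeneousComponent δ v q := fun q v =>
    MvPolynomial.weightedDecomposition.decompose'_apply R δ q v
  rw [h1, h1] at h
  exact h

theorem isHomogeneous_span {ι : Type} {g : ι → MvPolynomial (Fin N) R} {e : ι → ℕ}
    (hg : ∀ i, IsWeightedHomogeneous δ (g i) (e i)) (s : Set ι) :
    (Ideal.span (g '' s)).IsHomogeneous (weightedHomogeneousSubmodule R δ) :=
  Ideal.homogeneous_span _ _ (by rintro _ ⟨i, -, rfl⟩; exact ⟨e i, hg i⟩)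

theorem comp_mem {J : Ideal (MvPolynomial (Fin N) R)} (hJ : J.IsHomogeneous (weightedHomogeneousSubmodule R δ))
    {p : MvPolynomial (Fin N) R} (hp : p ∈ J) (u : ℕ) : weightedHomogeneousComponent δ u p ∈ J :=
  weightedHomogeneousComponent_mem_of_mem R δ hJ hp u

theorem exists_comp_eq_zero (p : MvPolynomial (Fin N) R) :
    ∃ B, ∀ u, B ≤ u → weightedHomogeneousComponent δ u p = 0 := by
  refine ⟨(p.support.image fun d => Finsupp.weight δ d).sup id + 1, fun u hu => ?_⟩
  refine weightedHomogeneousComponent_eq_zero' u p fun d hd h => ?_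
  have : Finsupp.weight δ d ≤ (p.support.image fun d => Finsupp.weight δ d).sup id :=
    Finset.le_sup (f := id) (Finset.mem_image_of_mem _ hd)
  omega

/-- Projection of the quotient by a homogeneous ideal to a degree. -/
def proj {J : Ideal (MvPolynomial (Fin N) R)} (hJ : J.IsHomogeneous (weightedHomogeneousSubmodule R δ)) (u : ℕ) :
    (MvPolynomial (Fin N) R ⧸ J) →ₗ[R] MvPolynomial (Fin N) R ⧸ J :=
  ((Submodule.Quotient.restrictScalarsEquiv R J).toLinearMap.comp
    ((J.restrictScalars R).mapQ (J.restrictScalars R) (weightedHomogeneousComponent δ u)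
      fun p hp => comp_mem δ hJ hp u)).comp (Submodule.Quotient.restrictScalarsEquiv R J).symm.toLinearMap

theorem proj_mk {J : Ideal (MvPolynomial (Fin N) R)} (hJ : J.IsHomogeneous (weightedHomogeneousSubmodule R δ))
    (u : ℕ) (p : MvPolynomial (Fin N) R) :
    proj δ hJ u (Ideal.Quotient.mk J p) = Ideal.Quotient.mk J (weightedHomogeneousComponent δ u p) := rfl

theorem proj_mem {J : Ideal (MvPolynomial (Fin N) R)} (hJ : J.IsHomogeneous (weightedHomogeneousSubmodule R δ))
    (u : ℕ) (x : MvPolynomial (Fin N) R ⧸ J) : proj δ hJ u x ∈ piece δ J u := by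
  obtain ⟨p, rfl⟩ := Ideal.Quotient.mk_surjective x
  rw [proj_mk]
  exact ⟨_, weightedHomogeneousComponent_mem δ p u, rfl⟩

theorem proj_of_mem {J : Ideal (MvPolynomial (Fin N) R)} (hJ : J.IsHomogeneous (weightedHomogeneousSubmodule R δ))
    (u : ℕ) {v : ℕ} {x : MvPolynomial (Fin N) R ⧸ J} (hx : x ∈ piece δ J v) :
    proj δ hJ u x = if u = v then x else 0 := by
  obtain ⟨a, ha, rfl⟩ := (mem_piece δ).1 hx
  rw [proj_mk, weightedHomogeneousComponent_of_mem ha]
  split_ifs <;> simp

end graded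

section field

variable {F : Type u} [Field F] {N : ℕ} (δ : Fin N → ℕ)

theorem finite_piece (hδ : ∀ i, 0 < δ i) (J : Ideal (MvPolynomial (Fin N) F)) (u : ℕ) :
    Module.Finite F (piece δ J u) :=
  Module.Finite.iff_fg.2 ((weightedHomogeneousSubmodule_fg F δ (fun i => (hδ i).ne') u).map _)

theorem finrank_piece_step (hδ : ∀ i, 0 < δ i) {J J' : Ideal (MvPolynomial (Fin N) F)}
    (hJ : J.IsHomogeneous (weightedHomogeneousSubmodule F δ)) {g : MvPolynomial (Fin N) F} {e : ℕ}
    (hg : IsWeightedHomogeneous δ g e) (hJ' : J' = J ⊔ Ideal.span {g}) (hreg : ∀ x, x * g ∈ J → x ∈ J) (u : ℕ) :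
    Module.finrank F (piece δ J u) =
      Module.finrank F (piece δ J' u) + if e ≤ u then Module.finrank F (piece δ J (u - e)) else 0 := by
  haveI := finite_piece δ hδ J
  have hle : J ≤ J' := hJ' ▸ le_sup_left
  let q : (MvPolynomial (Fin N) F ⧸ J) →ₗ[F] MvPolynomial (Fin N) F ⧸ J' :=
    (Ideal.Quotient.factorₐ F hle).toLinearMap
  let f := q.domRestrict (piece δ J u)
  have hrange : LinearMap.range f = piece δ J' u := by
    rw [LinearMap.range_domRestrict, piece, piece, ← Submodule.map_comp]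
    rfl
  have hker : Submodule.map (piece δ J u).subtype (LinearMap.ker f) = piece δ J u ⊓ LinearMap.ker q := by
    rw [LinearMap.ker_domRestrict]
    exact Submodule.map_comap_subtype _ _
  have hsplit : ∀ a, IsWeightedHomogeneous δ a u → a ∈ J' →
      (e ≤ u → ∃ b, IsWeightedHomogeneous δ b (u - e) ∧ a - g * b ∈ J) ∧ (¬ e ≤ u → a ∈ J) := by
    intro a ha ha'
    rw [hJ', Submodule.mem_sup] at ha'
    obtain ⟨j, hj, z, hz, rfl⟩ := ha'
    obtain ⟨b, rfl⟩ := Ideal.mem_span_singleton'.1 hz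
    have h1 := weightedHomogeneousComponent_eq_self ha
    rw [map_add, mul_comm b g, comp_mul δ hg] at h1
    refine ⟨fun he => ⟨_, weightedHomogeneousComponent_isWeightedHomogeneous (u - e) b, ?_⟩, fun he => ?_⟩
    · rw [if_pos he] at h1
      rw [mul_comm b g, ← h1, add_sub_cancel_right]
      exact comp_mem δ hJ hj u
    · rw [if_neg he, add_zero] at h1
      rw [mul_comm b g, ← h1]
      exact comp_mem δ hJ hj u
  rw [← LinearMap.finrank_range_add_finrank_ker f, hrange, ← Submodule.finrank_map_subtype_eq (piece δ J u) (LinearMap.ker f), hker]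
  congr 1
  split_ifs with he
  · let μ : piece δ J (u - e) →ₗ[F] MvPolynomial (Fin N) F ⧸ J :=
      (LinearMap.mulLeft F (Ideal.Quotient.mk J g)).domRestrict _
    have hμ : Function.Injective μ := by
      rw [injective_iff_map_eq_zero]
      rintro ⟨x, hx⟩ h
      obtain ⟨a, -, rfl⟩ := (mem_piece δ).1 hx
      replace h : Ideal.Quotient.mk J (g * a) = 0 := by rw [map_mul]; exact h
      rw [Ideal.Quotient.eq_zero_iff_mem, mul_comm] at h
      exact Subtype.ext (Ideal.Quotient.eq_zero_iff_mem.2 (hreg a h))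
    have : LinearMap.range μ = piece δ J u ⊓ LinearMap.ker q := by
      refine le_antisymm ?_ ?_
      · rintro _ ⟨⟨x, hx⟩, rfl⟩
        obtain ⟨a, ha, rfl⟩ := (mem_piece δ).1 hx
        show Ideal.Quotient.mk J g * Ideal.Quotient.mk J a ∈ _
        rw [← map_mul]
        refine ⟨(mem_piece δ).2 ⟨g * a, ?_, rfl⟩, ?_⟩
        · have := hg.mul ha
          rwa [Nat.add_sub_cancel' he] at this
        · show Ideal.Quotient.mk J' (g * a) = 0
          rw [Ideal.Quotient.eq_zero_iff_mem, hJ']
          exact Submodule.mem_sup_right (Ideal.mul_mem_right _ _ (Ideal.mem_span_singleton_self g))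
      · rintro x ⟨hx, hxq⟩
        obtain ⟨a, ha, rfl⟩ := (mem_piece δ).1 hx
        obtain ⟨b, hb, hab⟩ := (hsplit a ha (Ideal.Quotient.eq_zero_iff_mem.1 hxq)).1 he
        refine ⟨⟨_, (mem_piece δ).2 ⟨b, hb, rfl⟩⟩, ?_⟩
        show Ideal.Quotient.mk J g * Ideal.Quotient.mk J b = Ideal.Quotient.mk J a
        rw [← map_mul]
        exact (Ideal.Quotient.eq.2 hab).symm
    rw [← this, LinearMap.finrank_range_of_inj hμ]
  · have : piece δ J u ⊓ LinearMap.ker q = ⊥ := by
      rw [eq_bot_iff]
      rintro x ⟨hx, hxq⟩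
      obtain ⟨a, ha, rfl⟩ := (mem_piece δ).1 hx
      exact Ideal.Quotient.eq_zero_iff_mem.2 ((hsplit a ha (Ideal.Quotient.eq_zero_iff_mem.1 hxq)).2 he)
    rw [this, finrank_bot]

/-- The Hilbert series. -/
def hs (J : Ideal (MvPolynomial (Fin N) F)) : PowerSeries ℤ :=
  PowerSeries.mk fun u => (Module.finrank F (piece δ J u) : ℤ)

theorem hs_step (hδ : ∀ i, 0 < δ i) {J J' : Ideal (MvPolynomial (Fin N) F)}
    (hJ : J.IsHomogeneous (weightedHomogeneousSubmodule F δ)) {g : MvPolynomial (Fin N) F} {e : ℕ}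
    (hg : IsWeightedHomogeneous δ g e) (hJ' : J' = J ⊔ Ideal.span {g}) (hreg : ∀ x, x * g ∈ J → x ∈ J) :
    hs δ J' = hs δ J * (1 - PowerSeries.X ^ e) := by
  refine PowerSeries.ext fun u => ?_
  rw [mul_sub, mul_one, map_sub, PowerSeries.coeff_mul_X_pow', hs, hs, PowerSeries.coeff_mk, PowerSeries.coeff_mk,
    finrank_piece_step δ hδ hJ hg hJ' hreg u]
  split_ifs with he
  · rw [PowerSeries.coeff_mk]
    push_cast
    ring
  · simp

theorem hs_chain (hδ : ∀ i, 0 < δ i) : ∀ {r : ℕ} (g : Fin r → MvPolynomial (Fin N) F) (e : Fin r → ℕ),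
    (∀ i, IsWeightedHomogeneous δ (g i) (e i)) → RegSeq g →
      hs δ (Ideal.span (Set.range g)) =
        hs δ (⊥ : Ideal (MvPolynomial (Fin N) F)) * ∏ i, (1 - PowerSeries.X ^ e i) := by
  intro r
  induction r with
  | zero => intro g e _ _; rw [Set.range_eq_empty g, Ideal.span_empty]; simp
  | succ r ih =>
    intro g e hg hreg
    have hIio : ∀ j : Fin r, g '' Set.Iio j.castSucc = (g ∘ Fin.castSucc) '' Set.Iio j := fun j => by
      rw [Set.image_comp, Fin.image_castSucc_Iio]
    have hlast : g '' Set.Iio (Fin.last r) = Set.range (g ∘ Fin.castSucc) := by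
      rw [Set.range_comp, Fin.range_castSucc]
      rfl
    have hrec := ih (g ∘ Fin.castSucc) (e ∘ Fin.castSucc) (fun i => hg _) fun j x hx => by
      rw [← hIio] at hx ⊢
      exact hreg _ x hx
    rw [Fin.prod_univ_castSucc, ← mul_assoc]
    refine Eq.trans ?_ (congrArg (· * _) hrec)
    refine hs_step δ hδ ?_ (hg _) ?_ ?_
    · rw [← hlast]; exact isHomogeneous_span δ hg _
    · rw [← Ideal.span_union]
      congr 1
      ext x
      simp only [Set.mem_range, Set.union_singleton, Set.mem_insert_iff, Function.comp_apply]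
      constructor
      · rintro ⟨i, rfl⟩
        refine Fin.lastCases (Or.inl rfl) (fun j => Or.inr ⟨j, rfl⟩) i
      · rintro (rfl | ⟨j, rfl⟩)
        exacts [⟨_, rfl⟩, ⟨_, rfl⟩]
    · intro x hx
      rw [← hlast] at hx ⊢
      exact hreg _ x hx

theorem regSeq_X : RegSeq (X : Fin N → MvPolynomial (Fin N) F) := by
  classical
  intro k x hx
  rw [mem_ideal_span_X_image] at hx ⊢
  intro m hm
  obtain ⟨j, hj, h⟩ := hx (m + Finsupp.single k 1) (by
    rw [mem_support_iff, coeff_mul_X]
    exact mem_support_iff.1 hm)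
  refine ⟨j, hj, ?_⟩
  rwa [Finsupp.add_apply, Finsupp.single_eq_of_ne (ne_of_lt hj), add_zero] at h

theorem hs_bot_mul (hδ : ∀ i, 0 < δ i) :
    hs δ (⊥ : Ideal (MvPolynomial (Fin N) F)) * ∏ i, (1 - PowerSeries.X ^ δ i) = 1 := by
  classical
  rw [← hs_chain δ hδ X δ (fun i => isWeightedHomogeneous_X F δ i) regSeq_X]
  have hne : (1 : MvPolynomial (Fin N) F) ∉ Ideal.span (Set.range (X : Fin N → _)) := by
    rw [← Set.image_univ, mem_ideal_span_X_image]
    intro h
    obtain ⟨i, -, hi⟩ := h 0 (by simp [mem_support_iff])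
    exact hi rfl
  have hmem : ∀ u a, IsWeightedHomogeneous δ a u → u ≠ 0 →
      a ∈ Ideal.span (Set.range (X : Fin N → MvPolynomial (Fin N) F)) := by
    intro u a ha hu
    rw [← Set.image_univ, mem_ideal_span_X_image]
    intro m hm
    by_contra h
    push Not at h
    have : m = 0 := Finsupp.ext fun i => h i trivial
    exact hu ((ha (mem_support_iff.1 hm)).symm.trans (by rw [this, map_zero]))
  refine PowerSeries.ext fun u => ?_
  rw [hs, PowerSeries.coeff_mk, PowerSeries.coeff_one]
  split_ifs with hu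
  · subst hu
    have : piece δ (Ideal.span (Set.range (X : Fin N → MvPolynomial (Fin N) F))) 0 =
        Submodule.span F {(1 : MvPolynomial (Fin N) F ⧸ _)} := by
      refine le_antisymm (fun x hx => ?_) ?_
      · obtain ⟨a, ha, rfl⟩ := (mem_piece δ).1 hx
        rw [Submodule.mem_span_singleton]
        refine ⟨coeff 0 a, ?_⟩
        have hd : a = C (coeff 0 a) := by
          refine MvPolynomial.ext _ _ fun m => ?_
          rw [coeff_C]
          split_ifs with hm
          · rw [← hm]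
          · by_contra hne'
            refine hm (Finsupp.ext fun i => ?_)
            have := (Finsupp.le_weight δ (hδ i).ne' m).trans_eq (ha hne')
            rw [Finsupp.zero_apply]
            omega
        conv_rhs => rw [hd]
        rw [← Algebra.algebraMap_eq_smul_one]
        rfl
      · rw [Submodule.span_le, Set.singleton_subset_iff]
        exact (mem_piece δ).2 ⟨1, isWeightedHomogeneous_one F δ, map_one _⟩
    rw [this, finrank_span_singleton]
    · rfl
    · exact fun h => hne (Ideal.Quotient.eq_zero_iff_mem.1 h)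
  · have : piece δ (Ideal.span (Set.range (X : Fin N → MvPolynomial (Fin N) F))) u = ⊥ := by
      rw [eq_bot_iff]
      intro x hx
      obtain ⟨a, ha, rfl⟩ := (mem_piece δ).1 hx
      exact Ideal.Quotient.eq_zero_iff_mem.2 (hmem u a ha hu)
    rw [this, finrank_bot]
    rfl

/-- The Hilbert series of a regular sequence. -/
theorem hs_mul_prod (hδ : ∀ i, 0 < δ i) {r : ℕ} (g : Fin r → MvPolynomial (Fin N) F) (e : Fin r → ℕ)
    (hg : ∀ i, IsWeightedHomogeneous δ (g i) (e i)) (hreg : RegSeq g) :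
    hs δ (Ideal.span (Set.range g)) * ∏ i, (1 - PowerSeries.X ^ δ i) = ∏ i, (1 - PowerSeries.X ^ e i) := by
  rw [hs_chain δ hδ g e hg hreg, mul_right_comm, hs_bot_mul δ hδ, one_mul]

theorem exists_finrank_eq_sum (hδ : ∀ i, 0 < δ i) {J : Ideal (MvPolynomial (Fin N) F)}
    (hJ : J.IsHomogeneous (weightedHomogeneousSubmodule F δ)) [Module.Finite F (MvPolynomial (Fin N) F ⧸ J)] :
    ∃ B, (∀ u, B ≤ u → piece δ J u = ⊥) ∧
      Module.finrank F (MvPolynomial (Fin N) F ⧸ J) = ∑ u ∈ Finset.range B, Module.finrank F (piece δ J u) := by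
  classical
  haveI := finite_piece δ hδ J
  obtain ⟨s, hs'⟩ := Module.finite_def.1 ‹Module.Finite F (MvPolynomial (Fin N) F ⧸ J)›
  have hsB : ∀ x : MvPolynomial (Fin N) F ⧸ J, ∃ B, ∀ u, B ≤ u → proj δ hJ u x = 0 := fun x => by
    obtain ⟨p, rfl⟩ := Ideal.Quotient.mk_surjective x
    obtain ⟨B, hB⟩ := exists_comp_eq_zero δ p
    exact ⟨B, fun u hu => by rw [proj_mk, hB u hu, map_zero]⟩
  choose b hb using hsB
  let B := s.sup b
  have hz : ∀ u, B ≤ u → proj δ hJ u = 0 := fun u hu => by
    refine LinearMap.ext_on hs' fun x hx => ?_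
    rw [LinearMap.zero_apply]
    exact hb x u ((Finset.le_sup hx).trans hu)
  refine ⟨B, fun u hu => eq_bot_iff.2 fun x hx => ?_, ?_⟩
  · have h := proj_of_mem δ hJ u hx
    rw [if_pos rfl, hz u hu] at h
    exact h.symm
  let Φ : (MvPolynomial (Fin N) F ⧸ J) →ₗ[F] ((i : Fin B) → piece δ J i.1) :=
    LinearMap.pi fun i => (proj δ hJ i.1).codRestrict _ (proj_mem δ hJ i.1)
  have hΦ : Function.Bijective Φ := by
    refine ⟨(injective_iff_map_eq_zero Φ).2 fun x hx => ?_, fun y => ?_⟩
    · obtain ⟨p, rfl⟩ := Ideal.Quotient.mk_surjective x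
      rw [Ideal.Quotient.eq_zero_iff_mem, mem_iff_weightedHomogeneousComponent_mem F δ hJ]
      intro u
      rw [← Ideal.Quotient.eq_zero_iff_mem, ← proj_mk δ hJ]
      by_cases hu : u < B
      · exact congrArg Subtype.val (congrFun hx ⟨u, hu⟩)
      · rw [hz u (not_lt.1 hu)]; rfl
    · refine ⟨∑ i, (y i : MvPolynomial (Fin N) F ⧸ J), funext fun j => Subtype.ext ?_⟩
      show proj δ hJ j.1 (∑ i, (y i : MvPolynomial (Fin N) F ⧸ J)) = _
      rw [map_sum, Finset.sum_eq_single j]
      · rw [proj_of_mem δ hJ _ (y j).2, if_pos rfl]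
      · intro i _ hij
        rw [proj_of_mem δ hJ _ (y i).2, if_neg fun h => hij (Fin.ext h.symm)]
      · simp
  rw [(LinearEquiv.ofBijective Φ hΦ).finrank_eq, Module.finrank_pi_fintype]
  exact Fin.sum_univ_eq_sum_range (fun u => Module.finrank F (piece δ J u)) B

end field

section poly

open Polynomial

theorem one_sub_pow (a : ℕ) : (1 : ℤ[X]) - Polynomial.X ^ a = (1 - Polynomial.X) * ∑ i ∈ Finset.range a, Polynomial.X ^ i := by
  rw [mul_comm, ← geom_sum_mul_neg (Polynomial.X : ℤ[X]) a]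

theorem coe_prod_one_sub {r : ℕ} (e : Fin r → ℕ) :
    ((∏ i, ((1 : ℤ[X]) - Polynomial.X ^ e i) : ℤ[X]) : PowerSeries ℤ) = ∏ i, (1 - PowerSeries.X ^ e i) := by
  rw [← Polynomial.coeToPowerSeries.ringHom_apply, map_prod]
  refine Finset.prod_congr rfl fun i _ => ?_
  rw [map_sub, map_one, map_pow, Polynomial.coeToPowerSeries.ringHom_apply, Polynomial.coe_X]

variable {F : Type u} [Field F] {N : ℕ} (δ : Fin N → ℕ)

/-- The Hilbert polynomial of a finite complete intersection. -/
theorem exists_poly (hδ : ∀ i, 0 < δ i) (g : Fin N → MvPolynomial (Fin N) F) (e : Fin N → ℕ)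
    (hg : ∀ i, MvPolynomial.IsWeightedHomogeneous δ (g i) (e i)) (hreg : RegSeq g)
    [Module.Finite F (MvPolynomial (Fin N) F ⧸ Ideal.span (Set.range g))] :
    ∃ p : ℤ[X], (∀ u, p.coeff u = (Module.finrank F (piece δ (Ideal.span (Set.range g)) u) : ℤ)) ∧
      p.eval 1 = (Module.finrank F (MvPolynomial (Fin N) F ⧸ Ideal.span (Set.range g)) : ℤ) ∧
      p * ∏ i, (∑ j ∈ Finset.range (δ i), (Polynomial.X : ℤ[X]) ^ j) =
        ∏ i, ∑ j ∈ Finset.range (e i), (Polynomial.X : ℤ[X]) ^ j := by
  classical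
  have hJ : (Ideal.span (Set.range g)).IsHomogeneous (weightedHomogeneousSubmodule F δ) := by
    rw [← Set.image_univ]; exact isHomogeneous_span δ hg _
  obtain ⟨B, hB, hsum⟩ := exists_finrank_eq_sum δ hδ hJ
  let p : ℤ[X] := ∑ u ∈ Finset.range B, Polynomial.monomial u (Module.finrank F (piece δ (Ideal.span (Set.range g)) u) : ℤ)
  have hp : ∀ u, p.coeff u = (Module.finrank F (piece δ (Ideal.span (Set.range g)) u) : ℤ) := fun u => by
    simp only [p, Polynomial.finset_sum_coeff, Polynomial.coeff_monomial, Finset.sum_ite_eq', Finset.mem_range]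
    split_ifs with h
    · rfl
    · rw [hB u (not_lt.1 h), finrank_bot]; rfl
  refine ⟨p, hp, ?_, ?_⟩
  · simp [p, Polynomial.eval_finset_sum, hsum]
  have hcoe : (p : PowerSeries ℤ) = hs δ (Ideal.span (Set.range g)) :=
    PowerSeries.ext fun u => by rw [Polynomial.coeff_coe, hp, hs, PowerSeries.coeff_mk]
  have h := hs_mul_prod δ hδ g e hg hreg
  rw [← hcoe, ← coe_prod_one_sub, ← coe_prod_one_sub, ← Polynomial.coe_mul, Polynomial.coe_inj] at h
  simp only [one_sub_pow, Finset.prod_mul_distrib, Finset.prod_const, Finset.card_univ, Fintype.card_fin] at h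
  rw [← mul_assoc, mul_comm p, mul_assoc] at h
  exact mul_left_cancel₀ (pow_ne_zero _ (sub_ne_zero.2 fun h => by simpa using congrArg (Polynomial.eval (0 : ℤ)) h)) h

end poly

end Groth.Agent.WCI

namespace Groth.Agent.WCI

open Polynomial in
theorem monic_geom {a : ℕ} (ha : 0 < a) :
    (∑ j ∈ Finset.range a, (Polynomial.X : ℤ[X]) ^ j).Monic ∧
      (∑ j ∈ Finset.range a, (Polynomial.X : ℤ[X]) ^ j).natDegree = a - 1 := by
  have hm := Polynomial.monic_geom_sum_X (R := ℤ) (n := a) ha.ne'
  refine ⟨hm, ?_⟩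
  obtain ⟨b, rfl⟩ := Nat.exists_eq_succ_of_ne_zero ha.ne'
  apply le_antisymm
  · refine Polynomial.natDegree_sum_le_of_forall_le _ _ fun j hj => ?_
    rw [Polynomial.natDegree_X_pow]
    exact Nat.le_pred_of_lt (Finset.mem_range.1 hj)
  · refine Polynomial.le_natDegree_of_ne_zero ?_
    rw [Polynomial.finset_sum_coeff, Finset.sum_eq_single b]
    · simp
    · intro j _ hj
      rw [Polynomial.coeff_X_pow, if_neg]
      simpa using Ne.symm hj
    · simp

variable {F : Type u} [Field F] {N : ℕ} (δ : Fin N → ℕ)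

/-- The top degree of a finite complete intersection. -/
theorem top_degree (hδ : ∀ i, 0 < δ i) (g : Fin N → MvPolynomial (Fin N) F) (e : Fin N → ℕ) (he : ∀ i, 0 < e i)
    (hg : ∀ i, MvPolynomial.IsWeightedHomogeneous δ (g i) (e i)) (hreg : RegSeq g)
    [Module.Finite F (MvPolynomial (Fin N) F ⧸ Ideal.span (Set.range g))] :
    ∑ i, δ i ≤ ∑ i, e i ∧ piece δ (Ideal.span (Set.range g)) (∑ i, e i - ∑ i, δ i) ≠ ⊥ ∧
      ∀ u, ∑ i, e i - ∑ i, δ i < u → piece δ (Ideal.span (Set.range g)) u = ⊥ := by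
  obtain ⟨p, hp, -, heq⟩ := exists_poly δ hδ g e hg hreg
  have h1 := Polynomial.monic_prod_of_monic (s := Finset.univ) (fun i : Fin N => ∑ j ∈ Finset.range (δ i),
    (Polynomial.X : Polynomial ℤ) ^ j) fun i _ => (monic_geom (hδ i)).1
  have h2 := Polynomial.monic_prod_of_monic (s := Finset.univ) (fun i : Fin N => ∑ j ∈ Finset.range (e i),
    (Polynomial.X : Polynomial ℤ) ^ j) fun i _ => (monic_geom (he i)).1
  have hp0 : p ≠ 0 := fun h => by
    rw [h, zero_mul] at heq
    exact h2.ne_zero heq.symm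
  have hd : p.natDegree + ∑ i, (δ i - 1) = ∑ i, (e i - 1) := by
    have h := congrArg Polynomial.natDegree heq
    rw [Polynomial.natDegree_mul hp0 h1.ne_zero, Polynomial.natDegree_prod_of_monic _ _ fun i _ => (monic_geom (hδ i)).1,
      Polynomial.natDegree_prod_of_monic _ _ fun i _ => (monic_geom (he i)).1] at h
    simp only [fun i => (monic_geom (hδ i)).2, fun i => (monic_geom (he i)).2] at h
    exact h
  have hs1 : ∑ i, (δ i - 1) + N = ∑ i, δ i := by
    calc ∑ i, (δ i - 1) + N = ∑ i, ((δ i - 1) + 1) := by rw [Finset.sum_add_distrib]; simp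
      _ = _ := Finset.sum_congr rfl fun i _ => Nat.sub_add_cancel (hδ i)
  have hs2 : ∑ i, (e i - 1) + N = ∑ i, e i := by
    calc ∑ i, (e i - 1) + N = ∑ i, ((e i - 1) + 1) := by rw [Finset.sum_add_distrib]; simp
      _ = _ := Finset.sum_congr rfl fun i _ => Nat.sub_add_cancel (he i)
  have hdeg : p.natDegree = ∑ i, e i - ∑ i, δ i := by omega
  refine ⟨by omega, fun h => hp0 (Polynomial.leadingCoeff_eq_zero.1 ?_), fun u hu => ?_⟩
  · rw [Polynomial.leadingCoeff, hdeg, hp, h, finrank_bot]
    rfl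
  · haveI := finite_piece δ hδ (Ideal.span (Set.range g)) u
    have h := hp u
    rw [Polynomial.coeff_eq_zero_of_natDegree_lt (hdeg ▸ hu)] at h
    exact Submodule.finrank_eq_zero.1 (by exact_mod_cast h.symm)

end Groth.Agent.WCI
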