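import Mathlib

/-!
# Differences of polynomials and of eventually polynomial functions
-/

set_option autoImplicit false

noncomputable section

namespace Groth.Agent.WCI

open Polynomial

/-- Translation of the variable. -/
def shift (c : ℚ) (P : ℚ[X]) : ℚ[X] := taylor (-c) P

theorem eval_shift (c x : ℚ) (P : ℚ[X]) : (shift c P).eval x = P.eval (x - c) := by
  rw [shift, taylor_eval, ← sub_eq_add_neg]

theorem natDegree_shift (c : ℚ) (P : ℚ[X]) : (shift c P).natDegree = P.natDegree := natDegree_taylor _ _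

theorem coeff_shift_top {c : ℚ} {P : ℚ[X]} {n : ℕ} (h : P.natDegree ≤ n) : (shift c P).coeff n = P.coeff n := by
  rw [shift, taylor_coeff, eval_eq_sum_range' (n := 1) (lt_of_le_of_lt (natDegree_hasseDeriv_le _ _) (by omega))]
  rw [Finset.sum_range_one, pow_zero, mul_one, hasseDeriv_coeff, zero_add, Nat.choose_self, Nat.cast_one, one_mul]

theorem natDegree_sub_shift {P : ℚ[X]} {n : ℕ} (c : ℚ) (h : P.natDegree ≤ n + 1) :
    (P - shift c P).natDegree ≤ n ∧ (P - shift c P).coeff n = c * (n + 1) * P.coeff (n + 1) := by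
  refine ⟨natDegree_le_iff_coeff_eq_zero.2 fun j hj => ?_, ?_⟩
  · rcases (Nat.succ_le_of_lt hj).eq_or_lt with rfl | hj'
    · rw [coeff_sub, coeff_shift_top h, sub_self]
    · rw [coeff_sub, coeff_eq_zero_of_natDegree_lt (lt_of_le_of_lt h hj'),
        coeff_eq_zero_of_natDegree_lt (by rw [natDegree_shift]; exact lt_of_le_of_lt h hj'), sub_self]
  · rw [coeff_sub, shift, taylor_coeff,
      eval_eq_sum_range' (n := 2) (lt_of_le_of_lt (natDegree_hasseDeriv_le _ _) (by omega))]
    rw [Finset.sum_range_succ, Finset.sum_range_one, hasseDeriv_coeff, hasseDeriv_coeff, zero_add, Nat.choose_self,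
      Nat.cast_one, one_mul, pow_zero, mul_one, pow_one, add_comm 1 n, Nat.choose_succ_self_right]
    push_cast
    ring

theorem exists_antidiff : ∀ (n : ℕ) (R : ℚ[X]), R.natDegree ≤ n →
    ∃ P : ℚ[X], P.natDegree ≤ n + 1 ∧ P - shift 1 P = R := by
  intro n
  induction n with
  | zero =>
    intro R hR
    let P : ℚ[X] := C (R.coeff 0) * X ^ 1
    have hP : P.natDegree ≤ 0 + 1 := natDegree_C_mul_X_pow_le _ _
    refine ⟨P, hP, Polynomial.ext fun j => ?_⟩
    obtain ⟨h1, h2⟩ := natDegree_sub_shift 1 hP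
    rcases Nat.eq_zero_or_pos j with rfl | hj
    · rw [h2]; simp [P]
    · rw [coeff_eq_zero_of_natDegree_lt (lt_of_le_of_lt h1 hj), coeff_eq_zero_of_natDegree_lt (lt_of_le_of_lt hR hj)]
  | succ n ih =>
    intro R hR
    let P : ℚ[X] := C (R.coeff (n + 1) / (n + 2)) * X ^ (n + 2)
    have hP : P.natDegree ≤ (n + 1) + 1 := natDegree_C_mul_X_pow_le _ _
    obtain ⟨h1, h2⟩ := natDegree_sub_shift 1 hP
    obtain ⟨Q, hQ, hQe⟩ := ih (R - (P - shift 1 P)) (natDegree_le_iff_coeff_eq_zero.2 fun j hj => by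
      rcases (Nat.succ_le_of_lt hj).eq_or_lt with rfl | hj'
      · rw [coeff_sub, h2]
        simp only [P, coeff_C_mul_X_pow, show n + 1 + 1 = n + 2 from rfl, if_true]
        push_cast
        field_simp
        ring
      · rw [coeff_sub, coeff_eq_zero_of_natDegree_lt (lt_of_le_of_lt hR hj'),
          coeff_eq_zero_of_natDegree_lt (lt_of_le_of_lt h1 hj'), sub_zero])
    refine ⟨P + Q, (natDegree_add_le _ _).trans (max_le hP (by omega)), ?_⟩
    simp only [shift, map_add] at hQe ⊢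
    linear_combination hQe

open Filter in
theorem eq_of_eventually {P Q : ℚ[X]} (h : ∀ᶠ m : ℕ in atTop, P.eval (m : ℚ) = Q.eval (m : ℚ)) : P = Q := by
  obtain ⟨m₀, hm⟩ := eventually_atTop.1 h
  refine eq_of_infinite_eval_eq P Q (((Set.Ici_infinite m₀).image Nat.cast_injective.injOn).mono ?_)
  rintro _ ⟨m, hm', rfl⟩
  exact hm m hm'

open Filter in
theorem exists_poly_of_diff (h : ℕ → ℚ) {R : ℚ[X]} {n : ℕ} (hR : R.natDegree ≤ n)
    (hd : ∀ᶠ m : ℕ in atTop, h (m + 1) - h m = R.eval ((m : ℚ) + 1)) :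
    ∃ P : ℚ[X], P.natDegree ≤ n + 1 ∧ P - shift 1 P = R ∧ ∀ᶠ m : ℕ in atTop, h m = P.eval (m : ℚ) := by
  obtain ⟨P, hP, hPe⟩ := exists_antidiff n R hR
  obtain ⟨m₀, hm⟩ := eventually_atTop.1 hd
  refine ⟨P + C (h m₀ - P.eval (m₀ : ℚ)), (natDegree_add_le _ _).trans (max_le hP (by simp)), ?_,
    eventually_atTop.2 ⟨m₀, fun m hm' => ?_⟩⟩
  · simp only [shift, map_add, taylor_C] at hPe ⊢
    linear_combination hPe
  · induction m, hm' using Nat.le_induction with
    | base => simp
    | succ m hm' ih =>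
      have h1 := hm m hm'
      rw [← hPe, eval_sub, eval_shift, add_sub_cancel_right] at h1
      simp only [eval_add, eval_C, Nat.cast_add, Nat.cast_one] at ih ⊢
      linarith

end Groth.Agent.WCI
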